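import Groth.Agent.FibDesc.K290.ElDesc
import Groth.Agent.Cohder.HomSeqTau1

/-!
# Descent and short exact sequences

Two out of three for `IsDesc` in a short exact sequence of bounded below complexes of functors `Dp ⥤ AddCommGrpCat`.
-/

set_option autoImplicit false
set_option backward.isDefEq.respectTransparency false
set_option backward.isDefEq.respectTransparency.types false

universe u v w

open CategoryTheory CategoryTheory.Limits Opposite HomologicalComplex₂ ComplexShape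

namespace K933.DescSes

open K781.Desc K290.ElDesc Groth.Agent.Htor.H253.TotalQuasi Groth.Agent.Htor.H253.TotalRow
  Groth.Agent.Htor.H253.TotalPrj Groth.Agent.Htor.H253.AbQuasi

variable {A B : CochainComplex (Dp ⥤ AddCommGrpCat.{w}) ℤ}

/-- The map of total complexes of the rows. -/
noncomputable abbrev tE (φ : A ⟶ B) : (E0 A).total (up ℤ) ⟶ (E0 B).total (up ℤ) :=
  total.map (((eF AddCommGrpCat.{w} ⋙ HomologicalComplex.single AddCommGrpCat.{w} (up ℤ) 0).mapHomologicalComplex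
    (up ℤ)).map φ) (up ℤ)

/-- The map of total complexes of the double complexes. -/
noncomputable abbrev tD (φ : A ⟶ B) : (DC A).total (up ℤ) ⟶ (DC B).total (up ℤ) :=
  total.map (((rF AddCommGrpCat.{w} ⋙ cf AddCommGrpCat.{w}).mapHomologicalComplex (up ℤ)).map φ) (up ℤ)

lemma cmp_map (φ : A ⟶ B) (m i : ℤ) (n : ℕ) : (tD φ).f m ≫ cmp m i n = cmp m i n ≫ (φ.f i).app (ob n) := by
  have h1 := map_prj (((rF AddCommGrpCat.{w} ⋙ cf AddCommGrpCat.{w}).mapHomologicalComplex (up ℤ)).map φ) i n m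
  have h2 := θ_naturality ((rF AddCommGrpCat.{w}).map (φ.f i)) n n rfl
  unfold K290.ElDesc.cmp
  erw [reassoc_of% h1, h2]
  rfl

lemma ρ_map (φ : A ⟶ B) (m : ℤ) : (ρ A m).hom ≫ (tE φ).f m = (φ.f m).app WithInitial.star ≫ (ρ B m).hom := by
  have h1 := rowIso_naturality (((eF AddCommGrpCat.{w}).mapHomologicalComplex (up ℤ)).map φ)
  have h2 := congr(($h1).f m)
  exact h2.symm

section ses

variable {S : ShortComplex (CochainComplex (Dp ⥤ AddCommGrpCat.{w}) ℤ)} (hS : S.ShortExact)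

include hS

lemma ses_at (i : ℤ) (x : Dp) : ((S.map (HomologicalComplex.eval _ (up ℤ) i)).map
    ((evaluation Dp AddCommGrpCat.{w}).obj x)).ShortExact :=
  (hS.map_of_exact (HomologicalComplex.eval _ (up ℤ) i)).map_of_exact ((evaluation Dp AddCommGrpCat.{w}).obj x)

lemma inj_at (i : ℤ) (x : Dp) : Function.Injective ((S.f.f i).app x) :=
  (AddCommGrpCat.mono_iff_injective _).1 (ses_at hS i x).mono_f

lemma surj_at (i : ℤ) (x : Dp) : Function.Surjective ((S.g.f i).app x) :=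
  (AddCommGrpCat.epi_iff_surjective _).1 (ses_at hS i x).epi_g

lemma ex_at (i : ℤ) (x : Dp) (b : (S.X₂.X i).obj x) (hb : (S.g.f i).app x b = 0) : ∃ a, (S.f.f i).app x a = b :=
  (ShortComplex.ab_exact_iff _).1 (ses_at hS i x).exact b hb

end ses

lemma shortExact_ab {T : ShortComplex AddCommGrpCat.{w}} (h1 : Function.Injective T.f)
    (h2 : Function.Surjective T.g) (h3 : ∀ b, T.g b = 0 → ∃ a, T.f a = b) : T.ShortExact where
  exact := (ShortComplex.ab_exact_iff T).2 h3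
  mono_f := (AddCommGrpCat.mono_iff_injective _).2 h1
  epi_g := (AddCommGrpCat.epi_iff_surjective _).2 h2

lemma tE_comp_eq_zero (S : ShortComplex (CochainComplex (Dp ⥤ AddCommGrpCat.{w}) ℤ)) : tE S.f ≫ tE S.g = 0 := by
  rw [← total.map_comp, ← Functor.map_comp, S.zero, Functor.map_zero]
  ext n : 1
  apply total.hom_ext
  intro p q hpq
  rw [ιTotal_map]
  simp

lemma tD_comp_eq_zero (S : ShortComplex (CochainComplex (Dp ⥤ AddCommGrpCat.{w}) ℤ)) : tD S.f ≫ tD S.g = 0 := by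
  rw [← total.map_comp, ← Functor.map_comp, S.zero, Functor.map_zero]
  ext n : 1
  apply total.hom_ext
  intro p q hpq
  rw [ιTotal_map]
  simp

/-- The short complex of totals of rows. -/
noncomputable abbrev SE (S : ShortComplex (CochainComplex (Dp ⥤ AddCommGrpCat.{w}) ℤ)) :
    ShortComplex (CochainComplex AddCommGrpCat.{w} ℤ) :=
  ShortComplex.mk (tE S.f) (tE S.g) (tE_comp_eq_zero S)

/-- The short complex of totals. -/
noncomputable abbrev SD (S : ShortComplex (CochainComplex (Dp ⥤ AddCommGrpCat.{w}) ℤ)) :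
    ShortComplex (CochainComplex AddCommGrpCat.{w} ℤ) :=
  ShortComplex.mk (tD S.f) (tD S.g) (tD_comp_eq_zero S)

section ses

variable {S : ShortComplex (CochainComplex (Dp ⥤ AddCommGrpCat.{w}) ℤ)} (hS : S.ShortExact)

include hS

lemma shortExact_SE : (SE S).ShortExact := by
  apply HomologicalComplex.shortExact_of_degreewise_shortExact
  intro m
  have e1 : ∀ a, (tE S.f).f m ((ρ S.X₁ m).hom a) = (ρ S.X₂ m).hom ((S.f.f m).app _ a) := fun a =>
    congr($(ρ_map S.f m) a)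
  have e2 : ∀ a, (tE S.g).f m ((ρ S.X₂ m).hom a) = (ρ S.X₃ m).hom ((S.g.f m).app _ a) := fun a =>
    congr($(ρ_map S.g m) a)
  apply shortExact_ab
  · intro x y hxy
    change (tE S.f).f m x = (tE S.f).f m y at hxy
    rw [← inv_hom (ρ S.X₁ m) x, ← inv_hom (ρ S.X₁ m) y] at hxy ⊢
    rw [e1, e1] at hxy
    rw [inj_at hS m _ (hom_inj _ hxy)]
  · intro y
    obtain ⟨x, hx⟩ := surj_at hS m WithInitial.star ((ρ S.X₃ m).inv y)
    refine ⟨(ρ S.X₂ m).hom x, ?_⟩
    change (tE S.g).f m ((ρ S.X₂ m).hom x) = y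
    rw [e2, hx, inv_hom]
  · intro b hb
    change (tE S.g).f m b = 0 at hb
    rw [← inv_hom (ρ S.X₂ m) b, e2] at hb
    have h1 : (S.g.f m).app _ ((ρ S.X₂ m).inv b) = 0 := by
      apply hom_inj (ρ S.X₃ m)
      rw [hb, map_zero]
    obtain ⟨a, ha⟩ := ex_at hS m _ _ h1
    refine ⟨(ρ S.X₁ m).hom a, ?_⟩
    change (tE S.f).f m ((ρ S.X₁ m).hom a) = b
    rw [e1, ha, inv_hom]

lemma shortExact_SD (h1 : BB S.X₁) (h2 : BB S.X₂) (h3 : BB S.X₃) : (SD S).ShortExact := by
  apply HomologicalComplex.shortExact_of_degreewise_shortExact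
  intro m
  have hk : ∀ n : ℕ, (m - n) + n = m := fun n => by lia
  have e1 : ∀ (a : ((DC S.X₁).total (up ℤ)).X m) (n : ℕ), K290.ElDesc.cmp m (m - n) n ((tD S.f).f m a) =
      (S.f.f (m - n)).app _ (K290.ElDesc.cmp m (m - n) n a) := fun a n => congr($(cmp_map S.f m (m - n) n) a)
  have e2 : ∀ (a : ((DC S.X₂).total (up ℤ)).X m) (n : ℕ), K290.ElDesc.cmp m (m - n) n ((tD S.g).f m a) =
      (S.g.f (m - n)).app _ (K290.ElDesc.cmp m (m - n) n a) := fun a n => congr($(cmp_map S.g m (m - n) n) a)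
  apply shortExact_ab
  · intro x y hxy
    change (tD S.f).f m x = (tD S.f).f m y at hxy
    refine ext_cmp h1 m (fun n => m - n) hk fun n => ?_
    apply inj_at hS (m - n) _
    rw [← e1, ← e1, hxy]
  · intro y
    choose v hv using fun n : ℕ => surj_at hS (m - n) (ob n) (K290.ElDesc.cmp m (m - n) n y)
    obtain ⟨x, hx⟩ := exists_cmp h2 m (fun n => m - n) hk v
    refine ⟨x, ?_⟩
    change (tD S.g).f m x = y
    refine ext_cmp h3 m (fun n => m - n) hk fun n => ?_
    rw [e2, hx, hv]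
  · intro b hb
    change (tD S.g).f m b = 0 at hb
    have h4 : ∀ n : ℕ, ∃ a, (S.f.f (m - n)).app _ a = K290.ElDesc.cmp m (m - n) n b := fun n =>
      ex_at hS (m - n) _ _ (by rw [← e2, hb, map_zero])
    choose v hv using h4
    obtain ⟨x, hx⟩ := exists_cmp h1 m (fun n => m - n) hk v
    refine ⟨x, ?_⟩
    change (tD S.f).f m x = b
    refine ext_cmp h2 m (fun n => m - n) hk fun n => ?_
    rw [e1, hx, hv]

omit hS in
/-- The morphism of short complexes. -/
noncomputable abbrev homED (S : ShortComplex (CochainComplex (Dp ⥤ AddCommGrpCat.{w}) ℤ)) : SE S ⟶ SD S where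
  τ₁ := total.map (α S.X₁) (up ℤ)
  τ₂ := total.map (α S.X₂) (up ℤ)
  τ₃ := total.map (α S.X₃) (up ℤ)
  comm₁₂ := by
    change total.map (α S.X₁) (up ℤ) ≫ tD S.f = tE S.f ≫ total.map (α S.X₂) (up ℤ)
    rw [← total.map_comp, ← total.map_comp, α_naturality]
  comm₂₃ := by
    change total.map (α S.X₂) (up ℤ) ≫ tD S.g = tE S.g ≫ total.map (α S.X₃) (up ℤ)
    rw [← total.map_comp, ← total.map_comp, α_naturality]

theorem isDesc₁ (h1 : BB S.X₁) (h2 : BB S.X₂) (h3 : BB S.X₃) (d2 : IsDesc S.X₂) (d3 : IsDesc S.X₃) : IsDesc S.X₁ :=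
  Groth.Agent.Cohder.HomSeqTau1.quasiIso_τ₁ (homED S) (shortExact_SE hS) (shortExact_SD hS h1 h2 h3) d2 d3

theorem isDesc₂ (h1 : BB S.X₁) (h2 : BB S.X₂) (h3 : BB S.X₃) (d1 : IsDesc S.X₁) (d3 : IsDesc S.X₃) : IsDesc S.X₂ :=
  Groth.Agent.Cohder.HomSeqTau1.quasiIso_τ₂ (homED S) (shortExact_SE hS) (shortExact_SD hS h1 h2 h3) d1 d3

theorem isDesc₃ (h1 : BB S.X₁) (h2 : BB S.X₂) (h3 : BB S.X₃) (d1 : IsDesc S.X₁) (d2 : IsDesc S.X₂) : IsDesc S.X₃ :=
  HomologicalComplex.HomologySequence.quasiIso_τ₃ (homED S) (shortExact_SE hS) (shortExact_SD hS h1 h2 h3) d1 d2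

end ses

end K933.DescSes
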