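import Groth.Agent.EtDual.K933.UnivDesc
import Groth.Agent.EtDual.K933.DescSes
import Mathlib.Algebra.Homology.HomotopyCategory.MappingCone

/-!
# Universal descent: short exact sequences, cones, shifts, quasi-isomorphisms, functoriality
-/

set_option autoImplicit false
set_option backward.isDefEq.respectTransparency false
set_option backward.isDefEq.respectTransparency.types false

universe u v w u' v'

open CategoryTheory CategoryTheory.Limits Opposite ComplexShape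

namespace K933.UnivDesc

open K781.Desc K781.Cech K290.ElDesc K933.DescSes

variable {C : Type u} [Category.{v} C]

section quasi

variable {A B : CochainComplex (Cᵒᵖ ⥤ AddCommGrpCat.{w}) ℤ}

/-- Restriction of a morphism along `σ`. -/
noncomputable abbrev rsm {D : Type u'} [Category.{v'} D] (σ : D ⥤ Cᵒᵖ) (φ : A ⟶ B) : rs σ A ⟶ rs σ B :=
  (((Functor.whiskeringLeft _ _ AddCommGrpCat.{w}).obj σ).mapHomologicalComplex (up ℤ)).map φ

/-- Invariance under objectwise quasi-isomorphisms. -/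
theorem isDesc_rs_iff (hA : BB A) (hB : BB B) (φ : A ⟶ B) (σ : Dp ⥤ Cᵒᵖ)
    (h : ∀ x : Dp, QuasiIso ((((evaluation _ AddCommGrpCat.{w}).obj (σ.obj x)).mapHomologicalComplex (up ℤ)).map φ)) :
    IsDesc (rs σ A) ↔ IsDesc (rs σ B) :=
  isDesc_iff_of_quasi (bb_rs hA σ) (bb_rs hB σ) (rsm σ φ) fun x => h x

theorem ud_iff_of_quasi (hA : BB A) (hB : BB B) (φ : A ⟶ B)
    (h : ∀ T : Cᵒᵖ, QuasiIso ((((evaluation _ AddCommGrpCat.{w}).obj T).mapHomologicalComplex (up ℤ)).map φ))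
    {X T : C} (f : X ⟶ T) : UD A f ↔ UD B f :=
  ⟨fun H τ hτ a b sq => (isDesc_rs_iff hA hB φ _ fun _ => h _).1 (H τ hτ a b sq),
    fun H τ hτ a b sq => (isDesc_rs_iff hA hB φ _ fun _ => h _).2 (H τ hτ a b sq)⟩

/-- Universal descent from exactness of the rows. -/
theorem ud_of_ex (hA : BB A) {X T : C} (f : X ⟶ T)
    (h : ∀ (q : ℤ) (τ : Dpᵒᵖ ⥤ C), IsCech τ → ∀ (a : τ.obj (op (ob 0)) ⟶ X) (b : τ.obj (op .star) ⟶ T),
      IsPullback a (τ.map (init (ob 0)).op) f b → Ex (τ.rightOp ⋙ A.X q)) : UD A f :=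
  fun τ hτ a b sq => isDesc_of_augExact (bb_rs hA _) fun q => augExact_of_ex (h q τ hτ a b sq)

end quasi

section ses

variable {S : ShortComplex (CochainComplex (Cᵒᵖ ⥤ AddCommGrpCat.{w}) ℤ)} (hS : S.ShortExact)

/-- The restriction of a short complex. -/
noncomputable abbrev rS {D : Type u'} [Category.{v'} D] (σ : D ⥤ Cᵒᵖ)
    (S : ShortComplex (CochainComplex (Cᵒᵖ ⥤ AddCommGrpCat.{w}) ℤ)) :
    ShortComplex (CochainComplex (D ⥤ AddCommGrpCat.{w}) ℤ) :=
  S.map (((Functor.whiskeringLeft _ _ AddCommGrpCat.{w}).obj σ).mapHomologicalComplex (up ℤ))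

include hS in
lemma shortExact_rS (σ : Dp ⥤ Cᵒᵖ) : (rS σ S).ShortExact := by
  apply HomologicalComplex.shortExact_of_degreewise_shortExact
  intro i
  exact (hS.map_of_exact (HomologicalComplex.eval _ (up ℤ) i)).map_of_exact
    ((Functor.whiskeringLeft _ _ AddCommGrpCat.{w}).obj σ)

variable (h1 : BB S.X₁) (h2 : BB S.X₂) (h3 : BB S.X₃) {X T : C} {f : X ⟶ T}

include hS h1 h2 h3

theorem UD.ses₁ (d2 : UD S.X₂ f) (d3 : UD S.X₃ f) : UD S.X₁ f := fun τ hτ a b sq =>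
  isDesc₁ (shortExact_rS hS τ.rightOp) (bb_rs h1 _) (bb_rs h2 _) (bb_rs h3 _) (d2 τ hτ a b sq) (d3 τ hτ a b sq)

theorem UD.ses₂ (d1 : UD S.X₁ f) (d3 : UD S.X₃ f) : UD S.X₂ f := fun τ hτ a b sq =>
  isDesc₂ (shortExact_rS hS τ.rightOp) (bb_rs h1 _) (bb_rs h2 _) (bb_rs h3 _) (d1 τ hτ a b sq) (d3 τ hτ a b sq)

theorem UD.ses₃ (d1 : UD S.X₁ f) (d2 : UD S.X₂ f) : UD S.X₃ f := fun τ hτ a b sq =>
  isDesc₃ (shortExact_rS hS τ.rightOp) (bb_rs h1 _) (bb_rs h2 _) (bb_rs h3 _) (d1 τ hτ a b sq) (d2 τ hτ a b sq)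

end ses

section shift

variable {A : CochainComplex (Dp ⥤ AddCommGrpCat.{w}) ℤ}

theorem elDesc_shift (n : ℤ) (h : ElDesc A) : ElDesc (A⟦n⟧) := by
  intro k hk u v hu hv0 hv
  obtain ⟨ε, hε⟩ : ∃ ε : ℤ, ε = (n.negOnePow : ℤ) := ⟨_, rfl⟩
  have hε2 : ε * ε = 1 := by
    rw [hε, ← Units.val_mul, Int.units_mul_self, Units.val_one]
  have hd : ∀ (i j : ℤ) (x : Dp) (a : vl A (i + n) x), df (A⟦n⟧) i j x a = ε • df A (i + n) (j + n) x a := by
    intro i j x a
    rw [hε]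
    rfl
  have hd' : ∀ (i j : ℤ) (x : Dp) (a : vl A (i + n) x), df A (i + n) (j + n) x a = ε • df (A⟦n⟧) i j x a := by
    intro i j x a
    rw [hd, smul_smul, hε2, one_smul]
  obtain ⟨x, z, hx, hz0, hz⟩ := h.apply (fun m => k m + n) (fun m => by have := hk m; lia) (k 0 + 1 + n)
    (k 0 + 1 + 1 + n) (by lia) (by lia) u (fun m => (ε ^ (m + 1)) • (show vl A (k m + n) (ob m) from v m)) (by
      rw [hd', hu, smul_zero]) (by
      rw [map_zsmul, hd', hv0, smul_smul]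
      simp only [zero_add, pow_one, hε2, one_smul]
      rfl) (by
      intro m
      rw [map_zsmul, hd', hv m, map_zsmul, smul_smul, pow_succ ε (m + 1), mul_assoc, hε2, mul_one]
      rfl)
  have hp : ∀ m : ℕ, ε ^ m * ε ^ m = 1 := fun m => by rw [← mul_pow, hε2, one_pow]
  refine ⟨(ε • x : vl A (k 0 + n) WithInitial.star), fun m => (ε ^ m • z m : vl A (k (m + 1) + n) (ob m)), ?_, ?_, ?_⟩
  · rw [hd, map_zsmul, hx, smul_smul, hε2, one_smul]
  · have h2 : (show vl A (k 0 + n) (ob 0) from v 0) = au A (k 0 + n) (ε • x) +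
        ε • df A (k 1 + n) (k 0 + n) (ob 0) (ε ^ 0 • z 0) := by
      rw [pow_zero, one_smul, map_zsmul, ← smul_add, ← hz0, smul_smul, zero_add, pow_one, hε2, one_smul]
    exact h2.trans (congrArg (au A (k 0 + n) (ε • x) + ·) (hd (k 1) (k 0) (ob 0) (ε ^ 0 • z 0)).symm)
  · intro m
    have h2 : (show vl A (k (m + 1) + n) (ob (m + 1)) from v (m + 1)) =
        ε • df A (k (m + 2) + n) (k (m + 1) + n) (ob (m + 1)) (ε ^ (m + 1) • z (m + 1)) +
          de A (k (m + 1) + n) m (ε ^ m • z m) := by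
      rw [map_zsmul, smul_smul, map_zsmul, pow_succ', ← mul_assoc, hε2, one_mul, ← smul_add, ← hz m, smul_smul,
        pow_succ, pow_succ, mul_assoc (ε ^ m), hε2, mul_one, hp, one_smul]
    exact h2.trans (congrArg (· + de A (k (m + 1) + n) m (ε ^ m • z m))
      (hd (k (m + 2)) (k (m + 1)) (ob (m + 1)) (ε ^ (m + 1) • z (m + 1))).symm)

theorem isDesc_shift (hA : BB A) (n : ℤ) (h : IsDesc A) : IsDesc (A⟦n⟧) := by
  obtain ⟨a, ha⟩ := id hA
  have hA' : BB (A⟦n⟧) := ⟨a - n, fun i hi => ha (i + n) (by lia)⟩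
  exact isDesc_of_elDesc hA' (elDesc_shift n (elDesc_of_isDesc hA h))

end shift

section cone

variable {A B : CochainComplex (Cᵒᵖ ⥤ AddCommGrpCat.{w}) ℤ}

lemma bb_shift (hA : BB A) (n : ℤ) : BB (A⟦n⟧) := by
  obtain ⟨a, ha⟩ := hA
  exact ⟨a - n, fun i hi => ha (i + n) (by lia)⟩

/-- Universal descent for a shift. -/
theorem UD.shift (hA : BB A) {X T : C} {f : X ⟶ T} (h : UD A f) (n : ℤ) : UD (A⟦n⟧) f := fun τ hτ a b sq =>
  isDesc_shift (bb_rs hA _) n (h τ hτ a b sq)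

theorem ud_shift_iff (hA : BB A) {X T : C} {f : X ⟶ T} (n : ℤ) : UD (A⟦n⟧) f ↔ UD A f := by
  refine ⟨fun h => ?_, fun h => h.shift hA n⟩
  have h1 := h.shift (bb_shift hA n) (-n)
  let e : (A⟦n⟧)⟦-n⟧ ≅ A := (shiftFunctorCompIsoId _ n (-n) (by simp)).app A
  exact (ud_iff_of_quasi (bb_shift (bb_shift hA n) (-n)) hA e.hom (fun T => inferInstance) f).1 h1

/-- The short exact sequence `B ⟶ cone φ ⟶ A⟦1⟧`. -/
lemma shortExact_cone (φ : A ⟶ B) : (CochainComplex.mappingCone.triangleRotateShortComplex φ).ShortExact :=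
  HomologicalComplex.shortExact_of_degreewise_shortExact _
    (fun n => (CochainComplex.mappingCone.triangleRotateShortComplexSplitting φ n).shortExact)

lemma bb_cone (hA : BB A) (hB : BB B) (φ : A ⟶ B) : BB (CochainComplex.mappingCone φ) := by
  obtain ⟨a, ha⟩ := hA
  obtain ⟨b, hb⟩ := hB
  refine ⟨min a b - 1, fun i hi => ?_⟩
  rw [IsZero.iff_id_eq_zero]
  refine (CochainComplex.mappingCone.ext_from_iff φ (i + 1) i rfl _ _).2 ⟨?_, ?_⟩
  · exact (ha (i + 1) (by lia)).eq_of_src _ _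
  · exact (hb i (by lia)).eq_of_src _ _

/-- Universal descent for a mapping cone. -/
theorem UD.cone (hA : BB A) (hB : BB B) (φ : A ⟶ B) {X T : C} {f : X ⟶ T} (dA : UD A f) (dB : UD B f) :
    UD (CochainComplex.mappingCone φ) f :=
  UD.ses₂ (shortExact_cone φ) hB (bb_cone hA hB φ) (bb_shift hA 1) dB (dA.shift hA 1)

/-- Universal descent for the fibre `cone(φ)[-1]`. -/
theorem UD.fibre (hA : BB A) (hB : BB B) (φ : A ⟶ B) {X T : C} {f : X ⟶ T} (dA : UD A f) (dB : UD B f) :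
    UD ((CochainComplex.mappingCone φ)⟦(-1 : ℤ)⟧) f :=
  (UD.cone hA hB φ dA dB).shift (bb_cone hA hB φ) (-1)

end cone

end K933.UnivDesc
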