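import Groth.Agent.EtDual.K933.PerfCat
import Groth.Agent.EtDual.K658.SharpTau

/-!
# The functor `B ↦ W(B)/ξ` on perfect algebras

* `sharpF ξ : Perf p B₀ ⥤ Under (W(B₀)/ξ)`;
* `tcovU_sharpF`: it sends `ξ₀`-coverings to `p`-coverings.
-/

set_option autoImplicit false

universe u v w u' v'

open CategoryTheory CategoryTheory.Limits Opposite Ideal K148.Perf

namespace K933.PerfCat

variable {p : ℕ} [hp : Fact p.Prime]

local notation "𝕎" => WittVector p

section ring

variable {B B' B'' : Type u} [CommRing B] [CommRing B'] [CommRing B'']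

/-- The map `W(B)/η ⟶ W(B')/η'`. -/
noncomputable def shm (η : 𝕎 B) (η' : 𝕎 B') (f : B →+* B') (h : WittVector.map f η = η') :
    𝕎 B ⧸ span {η} →+* 𝕎 B' ⧸ span {η'} :=
  Ideal.quotientMap _ (WittVector.map f) (by
    rw [Ideal.span_singleton_le_iff_mem, Ideal.mem_comap, h]
    exact Ideal.mem_span_singleton_self _)

lemma shm_mk (η : 𝕎 B) (η' : 𝕎 B') (f : B →+* B') (h : WittVector.map f η = η') (x : 𝕎 B) :
    shm η η' f h (Ideal.Quotient.mk _ x) = Ideal.Quotient.mk _ (WittVector.map f x) := rfl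

lemma shm_id (η : 𝕎 B) (h : WittVector.map (RingHom.id B) η = η) : shm η η (RingHom.id B) h = RingHom.id _ := by
  apply Ideal.Quotient.ringHom_ext
  ext x : 1
  change Ideal.Quotient.mk _ (WittVector.map (RingHom.id B) x) = Ideal.Quotient.mk _ x
  congr 1

lemma shm_comp (η : 𝕎 B) (η' : 𝕎 B') (η'' : 𝕎 B'') (f : B →+* B') (g : B' →+* B'')
    (h : WittVector.map f η = η') (h' : WittVector.map g η' = η'') (h'' : WittVector.map (g.comp f) η = η'') :
    shm η η'' (g.comp f) h'' = (shm η' η'' g h').comp (shm η η' f h) := by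
  apply Ideal.Quotient.ringHom_ext
  ext x : 1
  change Ideal.Quotient.mk _ (WittVector.map (g.comp f) x) =
    Ideal.Quotient.mk _ (WittVector.map g (WittVector.map f x))
  congr 1

/-- `ξ` stays distinguished. -/
lemma isDist_map {ξ : 𝕎 B} (h : K148.Prim.IsDist ξ) (f : B →+* B') : K148.Prim.IsDist (WittVector.map f ξ) := by
  obtain ⟨η, hη, h⟩ := h
  refine ⟨WittVector.map f η, hη.map _, ?_⟩
  rw [WittVector.map_coeff]
  conv_lhs => rw [h]
  rw [map_add, map_mul, map_natCast, WittVector.map_teichmuller]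

theorem tauCov_shm (hB : IsPerf p B) (η : 𝕎 B) (η' : 𝕎 B') (f : B →+* B') (h : WittVector.map f η = η')
    (hη : K148.Prim.IsDist η) (hf : K617.VC.TauCov (η.coeff 0) f) :
    K617.VC.TauCov (p : 𝕎 B ⧸ span {η}) (shm η η' f h) := by
  subst h
  exact K658.SharpTau.tauCov_sharp' hB.cast hB.bij η hη f hf

end ring

variable {B₀ : CommRingCat.{u}} (ξ : WittVector p (B₀ : Type u))

/-- The element of `W(B)`. -/
noncomputable abbrev xi (B : Perf p B₀) : WittVector p (B.obj.right : Type u) := WittVector.map B.obj.hom.hom ξ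

omit hp in
lemma hom_comp {B B' : Perf p B₀} (f : B ⟶ B') : f.hom.right.hom.comp B.obj.hom.hom = B'.obj.hom.hom :=
  congr(($(Under.w f.hom)).hom)

lemma xi_map {B B' : Perf p B₀} (f : B ⟶ B') :
    WittVector.map f.hom.right.hom (xi ξ B) = xi ξ B' := by
  have h1 := hom_comp f
  have h2 : (WittVector.map (p := p) f.hom.right.hom).comp (WittVector.map B.obj.hom.hom) =
      WittVector.map B'.obj.hom.hom := by
    rw [← h1]
    ext x n
    rfl
  exact congr($h2 ξ)

/-- The ring `W(B)/ξ`. -/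
noncomputable abbrev shR (B : Perf p B₀) : Type u := WittVector p (B.obj.right : Type u) ⧸ span {xi ξ B}

/-- The map `W(B)/ξ ⟶ W(B')/ξ`. -/
noncomputable abbrev shMap {B B' : Perf p B₀} (f : B ⟶ B') : shR ξ B →+* shR ξ B' :=
  shm (xi ξ B) (xi ξ B') f.hom.right.hom (xi_map ξ f)

/-- The functor `B ↦ W(B)/ξ`. -/
noncomputable def sharp : Perf p B₀ ⥤ Under (CommRingCat.of (WittVector p (B₀ : Type u) ⧸ span {ξ})) where
  obj B := Under.mk (Y := CommRingCat.of (shR ξ B)) (CommRingCat.ofHom (shm ξ (xi ξ B) B.obj.hom.hom rfl))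
  map {B B'} f := Under.homMk (CommRingCat.ofHom (shMap ξ f)) (by
    apply CommRingCat.hom_ext
    apply Ideal.Quotient.ringHom_ext
    ext y : 1
    change Ideal.Quotient.mk _ (WittVector.map f.hom.right.hom (WittVector.map B.obj.hom.hom y)) =
      Ideal.Quotient.mk _ (WittVector.map B'.obj.hom.hom y)
    have h2 : (WittVector.map (p := p) f.hom.right.hom).comp (WittVector.map B.obj.hom.hom) =
        WittVector.map B'.obj.hom.hom := by
      rw [← hom_comp f]
      ext x n
      rfl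
    exact congrArg _ congr($h2 y))
  map_id B := by
    apply Under.UnderMorphism.ext
    apply CommRingCat.hom_ext
    exact shm_id (xi ξ B) (xi_map ξ (𝟙 B))
  map_comp {B B' B''} f g := by
    apply Under.UnderMorphism.ext
    apply CommRingCat.hom_ext
    exact shm_comp (xi ξ B) (xi ξ B') (xi ξ B'') f.hom.right.hom g.hom.right.hom (xi_map ξ f) (xi_map ξ g)
      (xi_map ξ (f ≫ g))

lemma sharp_map_hom {B B' : Perf p B₀} (f : B ⟶ B') : ((sharp ξ).map f).right.hom = shMap ξ f := rfl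

lemma sharp_obj_hom (B : Perf p B₀) : ((sharp ξ).obj B).hom.hom = shm ξ (xi ξ B) B.obj.hom.hom rfl := rfl

variable {d : ℕ} (x : Fin d → B₀)

/-- The elements `[x i]`. -/
noncomputable abbrev tx₀ (i : Fin d) : CommRingCat.of (WittVector p (B₀ : Type u) ⧸ span {ξ}) :=
  Ideal.Quotient.mk (span {ξ}) (WittVector.teichmuller p (x i))

/-- The functor `B ↦ (W(B)/ξ, [x])`. -/
noncomputable abbrev F1 : Perf p B₀ ⥤ Under (Pd.{u} d) := sharp ξ ⋙ ptFun (tx₀ ξ x)

lemma F1_map_hom {B B' : Perf p B₀} (f : B ⟶ B') : ((F1 ξ x).map f).right.hom = shMap ξ f := rfl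

/-- The elements `[x i]` of `W(B)/ξ`. -/
noncomputable abbrev tx (B : Perf p B₀) (i : Fin d) : shR ξ B :=
  Ideal.Quotient.mk (span {xi ξ B}) (WittVector.map B.obj.hom.hom (WittVector.teichmuller p (x i)))

lemma F1_obj (B : Perf p B₀) : (F1 ξ x).obj B = ptU (shR ξ B) (tx ξ x B) := rfl

lemma tx_eq (B : Perf p B₀) (i : Fin d) :
    tx ξ x B i = Ideal.Quotient.mk _ (WittVector.teichmuller p (B.obj.hom.hom (x i))) := by
  rw [tx, WittVector.map_teichmuller]

lemma shMap_tx {B B' : Perf p B₀} (f : B ⟶ B') (i : Fin d) : shMap ξ f (tx ξ x B i) = tx ξ x B' i := by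
  rw [tx_eq, tx_eq]
  change Ideal.Quotient.mk _ (WittVector.map f.hom.right.hom (WittVector.teichmuller p (B.obj.hom.hom (x i)))) = _
  rw [WittVector.map_teichmuller]
  have h1 : f.hom.right.hom (B.obj.hom.hom (x i)) = B'.obj.hom.hom (x i) := congr($(hom_comp f) (x i))
  rw [h1]

/-- The class of `ξ₀`-coverings of perfect algebras. -/
def tcov (a : B₀) : MorphismProperty (PC p B₀) := (tcovU a).inverseImage (perf p B₀).ι.op

omit hp in
lemma tcov_iff (a : B₀) {X T : PC p B₀} (f : X ⟶ T) :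
    tcov a f ↔ K617.VC.TauCov (T.unop.obj.hom.hom a) f.unop.hom.right.hom := Iff.rfl

instance (a : B₀) : (tcov (p := p) a).IsMultiplicative := by
  unfold tcov
  infer_instance

instance (a : B₀) : (tcov (p := p) a).IsStableUnderBaseChange where
  of_isPullback sq h := (tcovU a).of_isPullback (sq.map (perf p B₀).ι.op) h

/-- `ξ₀`-coverings go to `p`-coverings. -/
theorem tauCov_shMap (hξ : K148.Prim.IsDist ξ) {X T : PC p B₀} (f : X ⟶ T) (hf : tcov (ξ.coeff 0) f) :
    K617.VC.TauCov (p : shR ξ T.unop) (shMap ξ f.unop) := by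
  have h1 : K617.VC.TauCov ((xi ξ T.unop).coeff 0) f.unop.hom.right.hom := by
    rw [WittVector.map_coeff]
    exact hf
  exact tauCov_shm T.unop.property (xi ξ T.unop) (xi ξ X.unop) f.unop.hom.right.hom (xi_map ξ f.unop)
    (isDist_map hξ _) h1

end K933.PerfCat
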