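import Groth.Agent.EtDual.K933.UnivDesc

/-!
# Universal descent and functors preserving pullbacks

* `isCech_comp`: a functor preserving pullbacks preserves Cech diagrams;
* `UD.map`: if `F : D ⥤ C` preserves pullbacks and `UD A (F.map g)` then `UD (rs F.op A) g`.
-/

set_option autoImplicit false
set_option backward.isDefEq.respectTransparency false
set_option backward.isDefEq.respectTransparency.types false

universe u v w u' v'

open CategoryTheory CategoryTheory.Limits Opposite ComplexShape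

namespace K933.UnivDesc

open K781.Desc K781.Cech

variable {C : Type u} [Category.{v} C] {D : Type u'} [Category.{v'} D]

/-- The last face. -/
abbrev fcl (τ : Dpᵒᵖ ⥤ D) (n : ℕ) : τ.obj (op (ob (n + 1))) ⟶ τ.obj (op (ob n)) :=
  τ.map (WithInitial.incl.map (SimplexCategory.δ (Fin.last (n + 1)))).op

lemma fcl_vtx (τ : Dpᵒᵖ ⥤ D) (n : ℕ) (i : Fin (n + 1)) :
    fcl τ n ≫ τ.map (vtx n i).op = τ.map (vtx (n + 1) i.castSucc).op := by
  rw [map_incl_vtx]
  congr 3
  exact Fin.succAbove_last_apply i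

/-- The square building a Cech diagram. -/
theorem isPullback_cech {τ : Dpᵒᵖ ⥤ D} (h : IsCech τ) (n : ℕ) :
    IsPullback (fcl τ n) (τ.map (vtx (n + 1) (Fin.last (n + 1))).op) (τ.map (init (ob n)).op)
      (τ.map (init (ob 0)).op) := by
  have hw : fcl τ n ≫ τ.map (init (ob n)).op = τ.map (vtx (n + 1) (Fin.last (n + 1))).op ≫ τ.map (init (ob 0)).op := by
    rw [map_vtx_init, map_incl_init]
  refine ⟨⟨hw⟩, ⟨PullbackCone.isLimitAux' _ fun s => ?_⟩⟩
  have hs : s.fst ≫ τ.map (init (ob n)).op = s.snd ≫ τ.map (init (ob 0)).op := s.condition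
  have key : ∀ i : Fin (n + 2), (Fin.lastCases s.snd (fun i : Fin (n + 1) => s.fst ≫ τ.map (vtx n i).op) i :
      s.pt ⟶ τ.obj (op (ob 0))) ≫ τ.map (init (ob 0)).op = s.snd ≫ τ.map (init (ob 0)).op := by
    intro i
    refine Fin.lastCases ?_ (fun i => ?_) i
    · rw [Fin.lastCases_last]
    · rw [Fin.lastCases_castSucc, Category.assoc, map_vtx_init, hs]
  have hex := h.exists_lift (n + 1) s.pt
    (fun i => Fin.lastCases s.snd (fun i : Fin (n + 1) => s.fst ≫ τ.map (vtx n i).op) i)
    (fun i j => (key i).trans (key j).symm)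
  have h1 : hex.choose ≫ fcl τ n = s.fst := by
    apply h.hom_ext n
    intro i
    rw [Category.assoc, fcl_vtx, hex.choose_spec]
    exact Fin.lastCases_castSucc ..
  have h2 : hex.choose ≫ τ.map (vtx (n + 1) (Fin.last (n + 1))).op = s.snd := by
    rw [hex.choose_spec]
    exact Fin.lastCases_last ..
  refine ⟨hex.choose, h1, h2, fun {m} hm1 hm2 => ?_⟩
  have hm1' : m ≫ fcl τ n = s.fst := hm1
  have hm2' : m ≫ τ.map (vtx (n + 1) (Fin.last (n + 1))).op = s.snd := hm2
  apply h.hom_ext (n + 1)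
  intro i
  refine Fin.lastCases ?_ (fun i => ?_) i
  · rw [hm2', h2]
  · rw [← fcl_vtx, ← Category.assoc, ← Category.assoc, hm1', h1]

theorem isCech_comp (F : D ⥤ C) [PreservesLimitsOfShape WalkingCospan F] {τ : Dpᵒᵖ ⥤ D} (h : IsCech τ) :
    IsCech (τ ⋙ F) := by
  have hv0 : ∀ i : Fin 1, (τ ⋙ F).map (vtx 0 i).op = 𝟙 _ := fun i => map_vtx_zero (τ ⋙ F) i
  have hsq : ∀ n, IsPullback (fcl (τ ⋙ F) n) ((τ ⋙ F).map (vtx (n + 1) (Fin.last (n + 1))).op)
      ((τ ⋙ F).map (init (ob n)).op) ((τ ⋙ F).map (init (ob 0)).op) := fun n => (isPullback_cech h n).map F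
  refine ⟨fun n => ?_, fun n => ?_⟩
  · induction n with
    | zero =>
      intro Z a b hab
      have h1 := hab 0
      rw [hv0, Category.comp_id, Category.comp_id] at h1
      exact h1
    | succ n ih =>
      intro Z a b hab
      apply (hsq n).hom_ext
      · apply ih
        intro i
        rw [Category.assoc, Category.assoc, fcl_vtx, hab]
      · exact hab _
  · induction n with
    | zero =>
      intro Z a ha
      refine ⟨a 0, fun i => ?_⟩
      rw [hv0, Category.comp_id, Fin.fin_one_eq_zero i]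
    | succ n ih =>
      intro Z a ha
      obtain ⟨L, hL⟩ := ih Z (fun i => a i.castSucc) (fun i j => ha _ _)
      have hw : L ≫ (τ ⋙ F).map (init (ob n)).op = a (Fin.last (n + 1)) ≫ (τ ⋙ F).map (init (ob 0)).op := by
        rw [← map_vtx_init (τ ⋙ F) n 0, ← Category.assoc, hL]
        exact ha _ _
      refine ⟨(hsq n).lift L (a (Fin.last (n + 1))) hw, fun i => ?_⟩
      refine Fin.lastCases ?_ (fun i => ?_) i
      · exact (hsq n).lift_snd _ _ _
      · rw [← fcl_vtx, (hsq n).lift_fst_assoc, hL]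

/-- Transport of universal descent along a functor preserving pullbacks. -/
theorem UD.map (F : D ⥤ C) [PreservesLimitsOfShape WalkingCospan F]
    {A : CochainComplex (Cᵒᵖ ⥤ AddCommGrpCat.{w}) ℤ} {X T : D} {g : X ⟶ T} (h : UD A (F.map g)) :
    UD (rs F.op A) g := fun τ hτ a b sq =>
  h (τ ⋙ F) (isCech_comp F hτ) (F.map a) (F.map b) (sq.map F)

end K933.UnivDesc
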