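import Groth.Agent.EtDual.K933.Site
import Groth.Agent.EtDual.K933.UDMap
import Groth.Agent.EtDual.K933.SharpFun

/-!
# Comparison of `(B₀, x)` and `(W(B₀)/ξ, [x])`

`K` a complex of abelian presheaves on the schemes over `Spec ℤ[X₁, …, X_d]`, in degrees `≥ 0`;
`K1`, `K2` its restrictions to the category of perfect algebras over `B₀` along `B ↦ (W(B)/ξ, [x])` and
`B ↦ (B, x)`. `main`: if `K1`, `K2` satisfy descent for the `ξ₀`-coverings and coincide locally, then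
`Hⁱ K(B₀, x) ≅ Hⁱ K(W(B₀)/ξ, [x])` for all `i`.
-/

set_option autoImplicit false

universe u v w u' v'

open CategoryTheory CategoryTheory.Limits Opposite Ideal K148.Perf AlgebraicGeometry

namespace K933.Main

open K781.Desc K933.PerfCat K933.UnivDesc K933.Site

variable {p : ℕ} [hp : Fact p.Prime] {d : ℕ}

/-- The scheme `Spec R` over `Spec ℤ[X₁, …, X_d]` given by `g`. -/
noncomputable abbrev ptS (R : Type u) [CommRing R] (g : Fin d → R) : Over (Spec (Pd.{u} d)) :=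
  (spU (Pd.{u} d)).obj (op (ptU R g))

/-- Isomorphic rings give isomorphic objects. -/
noncomputable def ptSIso {R R' : Type u} [CommRing R] [CommRing R'] (e : R ≃+* R') {g : Fin d → R} {g' : Fin d → R'}
    (h : ∀ i, e (g i) = g' i) : ptS R' g' ≅ ptS R g :=
  (spU (Pd.{u} d)).mapIso
    (Iso.op (Under.isoMk (f := ptU R g) (g := ptU R' g') e.toCommRingCatIso (CommRingCat.hom_ext
      (comp_evP (g := g) (g' := g') e.toRingHom h))))

section ev

variable {C : Type u'} [Category.{v'} C]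

/-- The complex of values. -/
noncomputable abbrev evO (T : C) (A : CochainComplex (Cᵒᵖ ⥤ AddCommGrpCat.{w}) ℤ) :
    CochainComplex AddCommGrpCat.{w} ℤ :=
  (((evaluation Cᵒᵖ AddCommGrpCat.{w}).obj (op T)).mapHomologicalComplex (ComplexShape.up ℤ)).obj A

/-- The homology of the values. -/
noncomputable def evOHomologyIso (T : C) (A : CochainComplex (Cᵒᵖ ⥤ AddCommGrpCat.{w}) ℤ) (i : ℤ) :
    (evO T A).homology i ≅ (A.homology i).obj (op T) :=
  (A.sc i).mapHomologyIso ((evaluation Cᵒᵖ AddCommGrpCat.{w}).obj (op T))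

/-- Functoriality of values in the object. -/
noncomputable def evOIso {T T' : C} (e : T ≅ T') (A : CochainComplex (Cᵒᵖ ⥤ AddCommGrpCat.{w}) ℤ) :
    evO T' A ≅ evO T A :=
  (NatIso.mapHomologicalComplex ((evaluation Cᵒᵖ AddCommGrpCat.{w}).mapIso e.op) (ComplexShape.up ℤ)).app A

/-- Homology of a restriction. -/
noncomputable def rsHomologyIso {D : Type u} [Category.{v} D] (σ : D ⥤ Cᵒᵖ)
    (A : CochainComplex (Cᵒᵖ ⥤ AddCommGrpCat.{w}) ℤ) (i : ℤ) : (rs σ A).homology i ≅ σ ⋙ A.homology i :=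
  (A.sc i).mapHomologyIso ((Functor.whiskeringLeft _ _ AddCommGrpCat.{w}).obj σ)

end ev

variable {B₀ : CommRingCat.{u}} (ξ : WittVector p (B₀ : Type u)) (x : Fin d → B₀)
  (K : CochainComplex ((Over (Spec (Pd.{u} d)))ᵒᵖ ⥤ AddCommGrpCat.{u + 1}) ℤ)

/-- The restriction along `B ↦ (W(B)/ξ, [x])`. -/
noncomputable abbrev K1 : CochainComplex ((PC p B₀)ᵒᵖ ⥤ AddCommGrpCat.{u + 1}) ℤ :=
  rs ((F1 ξ x).op ⋙ spU _).op K

variable (p) in
/-- The restriction along `B ↦ (B, x)`. -/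
noncomputable abbrev K2 : CochainComplex ((PC p B₀)ᵒᵖ ⥤ AddCommGrpCat.{u + 1}) ℤ :=
  rs ((F2 p x).op ⋙ spU _).op K

variable {ξ x K}

theorem main_aux [HasFiniteLimits (PC p B₀)] (hK0 : ∀ i < 0, IsZero (K.X i))
    (h1 : ∀ ⦃X T : PC p B₀⦄ (f : X ⟶ T), tcov (ξ.coeff 0) f → UD (K1 ξ x K) f)
    (h2 : ∀ ⦃X T : PC p B₀⦄ (f : X ⟶ T), tcov (ξ.coeff 0) f → UD (K2 p x K) f)
    (α : (K2 p x K).homology 0 ⟶ (K1 ξ x K).homology 0)
    (hgood : ∀ T : PC p B₀, ∃ (X : PC p B₀) (f : X ⟶ T), tcov (ξ.coeff 0) f ∧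
      (∀ i > 0, IsZero ((evO X (K2 p x K)).homology i)) ∧
      (∀ i > 0, IsZero ((evO X (K1 ξ x K)).homology i)) ∧ IsIso (α.app (op X))) (T : PC p B₀) (i : ℤ) :
    Nonempty ((evO T (K2 p x K)).homology i ≅ (evO T (K1 ξ x K)).homology i) := by
  refine K933.Site.nonempty_iso (W := tcov (ξ.coeff 0)) ?_ ?_ ?_ ?_ α hgood T i
  · exact fun i hi => ((Functor.whiskeringLeft _ _ _).obj _).map_isZero (hK0 i hi)
  · exact fun i hi => ((Functor.whiskeringLeft _ _ _).obj _).map_isZero (hK0 i hi)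
  · exact fun X T f hf => (h2 f hf).desc
  · exact fun X T f hf => (h1 f hf).desc

variable (ξ) in
lemma xi_bot (hB₀ : IsPerf p B₀) : xi ξ (Perf.bot hB₀) = ξ := by
  change WittVector.map (RingHom.id _) ξ = ξ
  rw [WittVector.map_id]
  rfl

variable (ξ) in
/-- The ring at the initial object. -/
noncomputable def botEquiv (hB₀ : IsPerf p B₀) :
    (WittVector p (B₀ : Type u) ⧸ span {ξ}) ≃+* shR ξ (Perf.bot hB₀) :=
  Ideal.quotEquivOfEq (by
    rw [xi_bot]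
    rfl)

lemma botEquiv_tx (hB₀ : IsPerf p B₀) (i : Fin d) : botEquiv ξ hB₀ (tx₀ ξ x i) = tx ξ x (Perf.bot hB₀) i := by
  rw [tx_eq]
  rfl

/-- **Comparison theorem.** -/
theorem main (hB₀ : IsPerf p B₀) (hK0 : ∀ i < 0, IsZero (K.X i))
    (h1 : ∀ ⦃X T : PC p B₀⦄ (f : X ⟶ T), tcov (ξ.coeff 0) f → UD (K1 ξ x K) f)
    (h2 : ∀ ⦃X T : PC p B₀⦄ (f : X ⟶ T), tcov (ξ.coeff 0) f → UD (K2 p x K) f)
    (α : ((F2 p x).op ⋙ spU _).op ⋙ K.homology 0 ⟶ ((F1 ξ x).op ⋙ spU _).op ⋙ K.homology 0)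
    (hgood : ∀ T : PC p B₀, ∃ (X : PC p B₀) (f : X ⟶ T), tcov (ξ.coeff 0) f ∧
      (∀ i > 0, IsZero ((K.homology i).obj (op ((spU _).obj (op ((F2 p x).obj X.unop)))))) ∧
      (∀ i > 0, IsZero ((K.homology i).obj (op ((spU _).obj (op ((F1 ξ x).obj X.unop)))))) ∧
      IsIso (α.app (op X))) (i : ℤ) :
    Nonempty ((evO (ptS B₀ x) K).homology i ≅ (evO (ptS _ (tx₀ ξ x)) K).homology i) := by
  have := hasFiniteLimits hB₀
  obtain ⟨e⟩ := main_aux (ξ := ξ) (x := x) (K := K) hK0 h1 h2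
    ((rsHomologyIso _ K 0).hom ≫ α ≫ (rsHomologyIso _ K 0).inv) (fun T => by
      obtain ⟨X, f, hf, a, b, c⟩ := hgood T
      refine ⟨X, f, hf, fun i hi => (a i hi).of_iso (evOHomologyIso _ K i),
        fun i hi => (b i hi).of_iso (evOHomologyIso _ K i), ?_⟩
      rw [NatTrans.comp_app, NatTrans.comp_app]
      infer_instance) (op (Perf.bot hB₀)) i
  let e1 : evO (op (Perf.bot hB₀)) (K1 ξ x K) ≅ evO (ptS _ (tx₀ ξ x)) K :=
    evOIso (ptSIso (botEquiv ξ hB₀) (botEquiv_tx (x := x) hB₀)).symm K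
  exact ⟨e ≪≫ (HomologicalComplex.homologyFunctor _ _ i).mapIso e1⟩

end K933.Main
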