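import Groth.Agent.FibDesc.K31.Cech
import Groth.Agent.FibDesc.K61.Fubini
import Mathlib.CategoryTheory.Limits.Constructions.Over.Products
import Mathlib.CategoryTheory.MorphismProperty.Limits

/-!
# Universal descent for a complex of presheaves

`C` a category with pullbacks and wide pullbacks, `A` a bounded below complex of abelian presheaves on `C`.
`UD A f`: the complex `A` satisfies descent along the Cech nerve of every base change of `f`.
* `UD.desc`: descent along the Cech nerve;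
* `ud_of_section`, `UD.of_sq`, `ud_iff_baseChange` (locality), `ud_of_comp`, `ud_comp`.
-/

set_option autoImplicit false
set_option backward.isDefEq.respectTransparency false
set_option backward.isDefEq.respectTransparency.types false
set_option linter.unusedSectionVars false

universe u v w u' v'

open CategoryTheory CategoryTheory.Limits Opposite ComplexShape

namespace K933.UnivDesc

open K781.Desc K781.Cech

variable {C : Type u} [Category.{v} C]

/-- Universal descent. -/
def UD (A : CochainComplex (Cᵒᵖ ⥤ AddCommGrpCat.{w}) ℤ) : MorphismProperty C := fun X T f =>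
  ∀ (τ : Dpᵒᵖ ⥤ C), IsCech τ → ∀ (a : τ.obj (op (ob 0)) ⟶ X) (b : τ.obj (op .star) ⟶ T),
    IsPullback a (τ.map (init (ob 0)).op) f b → IsDesc (rs τ.rightOp A)

variable {A : CochainComplex (Cᵒᵖ ⥤ AddCommGrpCat.{w}) ℤ}

theorem UD.of_sq {X T X' T' : C} {f : X ⟶ T} {f' : X' ⟶ T'} {a : X' ⟶ X} {b : T' ⟶ T}
    (sq : IsPullback a f' f b) (hf : UD A f) : UD A f' := fun τ hτ a' b' h =>
  hf τ hτ (a' ≫ a) (b' ≫ b) (h.paste_horiz sq)

instance : (UD A).IsStableUnderBaseChange where
  of_isPullback sq h := UD.of_sq sq h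

lemma bb_rs {D : Type u'} [Category.{v'} D] (hA : BB A) (σ : D ⥤ Cᵒᵖ) : BB (rs σ A) := by
  obtain ⟨a, ha⟩ := hA
  exact ⟨a, fun i hi => ((Functor.whiskeringLeft _ _ _).obj σ).map_isZero (ha i hi)⟩

theorem ud_of_section (hA : BB A) {X T : C} (f : X ⟶ T) (s : T ⟶ X) (hs : s ≫ f = 𝟙 T) : UD A f := by
  intro τ hτ a b sq
  obtain ⟨t, ht1, ht2⟩ : ∃ t : τ.obj (op .star) ⟶ τ.obj (op (ob 0)), t ≫ a = b ≫ s ∧
      t ≫ τ.map (init (ob 0)).op = 𝟙 _ :=
    ⟨sq.lift (b ≫ s) (𝟙 _) (by rw [Category.assoc, hs, Category.comp_id, Category.id_comp]), sq.lift_fst _ _ _,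
      sq.lift_snd _ _ _⟩
  obtain ⟨x⟩ := xco_of_section hτ t ht2
  exact isDesc_of_augExact (bb_rs hA _) fun q => (x.map (A.X q)).augExact

lemma isDesc_of_iso {A B : CochainComplex (Dp ⥤ AddCommGrpCat.{w}) ℤ} (hA : BB A) (hB : BB B) (e : A ≅ B)
    (h : IsDesc A) : IsDesc B := by
  refine (isDesc_iff_of_quasi hA hB e.hom fun x => ?_).1 h
  change QuasiIso _
  infer_instance

/-- Descent is invariant under isomorphisms of the diagram. -/
lemma isDesc_rs_of_iso (hA : BB A) {σ τ : Dp ⥤ Cᵒᵖ} (e : σ ≅ τ) (h : IsDesc (rs σ A)) : IsDesc (rs τ A) := by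
  refine isDesc_of_iso (bb_rs hA _) (bb_rs hA _) ?_ h
  exact (NatIso.mapHomologicalComplex ((Functor.whiskeringLeft _ _ _).mapIso e) (up ℤ)).app A

/-- The opposite of an isomorphism of diagrams. -/
def rightOpIso {D : Type u'} [Category.{v'} D] {F G : Dᵒᵖ ⥤ C} (e : F ≅ G) : F.rightOp ≅ G.rightOp :=
  NatIso.ofComponents (fun x => (e.app (op x)).op.symm) (fun {x y} f =>
    Quiver.Hom.unop_inj (e.inv.naturality f.op).symm)

section over

variable [HasPullbacks C]

instance (S : C) : HasBinaryProducts (Over S) := Over.ConstructProducts.over_binaryProduct_of_pullback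

lemma prod_snd_sq {D : Type u'} [Category.{v'} D] [HasBinaryProducts D] (P : D) {Q R : D} (f : Q ⟶ R) :
    IsPullback (prod.snd : P ⨯ Q ⟶ Q) (prod.map (𝟙 P) f) f prod.snd where
  w := by simp
  isLimit' := ⟨PullbackCone.isLimitAux' _ (fun s ↦ by
    refine ⟨prod.lift (s.snd ≫ prod.fst) s.fst, ?_, ?_, ?_⟩
    · exact prod.lift_snd _ _
    · refine Limits.prod.hom_ext ?_ ?_
      · simp
      · have := s.condition
        simp [this]
    · intro m h₁ h₂
      dsimp at m h₁ h₂ ⊢
      refine Limits.prod.hom_ext ?_ ?_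
      · simp [← h₂]
      · simpa using h₁)⟩

lemma isPullback_prod {S : C} (P Q : Over S) :
    IsPullback (prod.fst : P ⨯ Q ⟶ P).left (prod.snd : P ⨯ Q ⟶ Q).left P.hom Q.hom :=
  Over.isPullback_of_binaryFan_isLimit (BinaryFan.mk prod.fst prod.snd) (prodIsProd P Q)

lemma isPullback_prodL {S : C} (P : Over S) {Q R : Over S} (f : Q ⟶ R) :
    IsPullback (prod.snd : P ⨯ Q ⟶ Q).left (prod.map (𝟙 P) f).left f.left (prod.snd : P ⨯ R ⟶ R).left :=
  (prod_snd_sq P f).map (Over.forget S)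

lemma isPullback_prodR {S : C} (P : Over S) {Q R : Over S} (f : Q ⟶ R) :
    IsPullback (prod.fst : Q ⨯ P ⟶ Q).left (prod.map f (𝟙 P)).left f.left (prod.fst : R ⨯ P ⟶ R).left :=
  (IsPullback.of_prod_fst_with_id f P).map (Over.forget S)

variable [∀ (n : ℕ) (f : Arrow C), HasWidePullback f.right (fun _ : Fin (n + 1) => f.left) fun _ => f.hom]

/-- The square over the degree zero part of the nerve. -/
lemma sq_nerveZero {X T : C} (f : X ⟶ T) :
    IsPullback (nerveZero f).hom ((nerve f).map (init (ob 0)).op) f (𝟙 T) :=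
  have : IsIso (show (nerve f).obj (op .star) ⟶ T from 𝟙 T) := inferInstanceAs (IsIso (𝟙 T))
  IsPullback.of_horiz_isIso ⟨by rw [nerveZero_hom]; exact (Category.comp_id _).symm⟩

/-- Universal descent implies descent. -/
theorem UD.desc {X T : C} {f : X ⟶ T} (hf : UD A f) : IsDesc (rs (cech f) A) :=
  hf (nerve f) (isCech_nerve f) _ _ (sq_nerveZero f)

section Main

variable {S Y : C} (v : Y ⟶ S)

/-- The Cech diagram of `v` over `S`. -/
noncomputable abbrev cd : Dpᵒᵖ ⥤ Over S := lift (nerve v) (𝟙 S)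

lemma isCech_cd : IsCech (cd v) := isCech_lift _ (isCech_nerve v) (𝟙 S)

lemma sq_cd : IsPullback (nerveZero v).hom ((cd v).map (init (ob 0)).op).left v (𝟙 S) := sq_nerveZero v

lemma cd_star_hom : ((cd v).obj (op .star)).hom = 𝟙 S := by
  change (nerve v).map (init .star).op ≫ 𝟙 S = _
  have : (init .star : WithInitial.star ⟶ .star) = 𝟙 _ := Subsingleton.elim _ _
  rw [this, op_id, (nerve v).map_id]
  exact Category.id_comp _

/-- The diagram in `C` underlying a diagram over `S`. -/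
abbrev fg (τ : Dpᵒᵖ ⥤ Over S) : Dpᵒᵖ ⥤ C := τ ⋙ Over.forget S

lemma isCech_fg {τ : Dpᵒᵖ ⥤ Over S} (h : IsCech τ) : IsCech (fg τ) := (isCech_over τ).1 h

lemma desc_L (hv : UD A v) (τ : Dpᵒᵖ ⥤ Over S) (x : Dp) :
    IsDesc (rs (fg ((secL x).op ⋙ bi τ (cd v))).rightOp A) := by
  have h1 : ((secL x).op ⋙ bi τ (cd v)).map (init (ob 0)).op =
      prod.map (𝟙 (τ.obj (op x))) ((cd v).map (init (ob 0)).op) := bi_map_left x _
  have h2 := (isPullback_prodL (τ.obj (op x)) ((cd v).map (init (ob 0)).op)).paste_horiz (sq_cd v)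
  have h3 : IsPullback ((prod.snd : τ.obj (op x) ⨯ (cd v).obj (op (ob 0)) ⟶ _).left ≫ (nerveZero v).hom)
      (((secL x).op ⋙ bi τ (cd v)).map (init (ob 0)).op).left v
      ((prod.snd : τ.obj (op x) ⨯ (cd v).obj (op .star) ⟶ _).left ≫ 𝟙 S) := by
    rw [h1]
    exact h2
  exact hv _ (isCech_fg ((isCech_cd v).prod_left x)) _ _ h3

lemma desc_R {X T : C} {f : X ⟶ T} {T' : C} {g : T' ⟶ T} (hf : UD A (pullback.snd f g))
    {τ : Dpᵒᵖ ⥤ Over S} (hτ : IsCech τ) (a : (τ.obj (op (ob 0))).left ⟶ X) (b : (τ.obj (op .star)).left ⟶ T)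
    (sq : IsPullback a (τ.map (init (ob 0)).op).left f b) (y : Dp)
    (k : ((cd v).obj (op y)).left ⟶ T') (b' : S ⟶ T) (hb : b = (τ.obj (op .star)).hom ≫ b')
    (hk : k ≫ g = ((cd v).obj (op y)).hom ≫ b') :
    IsDesc (rs (fg ((secR y).op ⋙ bi τ (cd v))).rightOp A) := by
  have h1 : ((secR y).op ⋙ bi τ (cd v)).map (init (ob 0)).op =
      prod.map (τ.map (init (ob 0)).op) (𝟙 ((cd v).obj (op y))) := bi_map_right y _
  have h2 := (isPullback_prodR ((cd v).obj (op y)) (τ.map (init (ob 0)).op)).paste_horiz sq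
  have e1 := (isPullback_prod (τ.obj (op .star)) ((cd v).obj (op y))).w
  have h4 : (prod.fst : τ.obj (op .star) ⨯ (cd v).obj (op y) ⟶ _).left ≫ b =
      ((prod.snd : τ.obj (op .star) ⨯ (cd v).obj (op y) ⟶ _).left ≫ k) ≫ g := by
    rw [hb, Category.assoc, hk, ← Category.assoc, e1, Category.assoc]
  rw [h4] at h2
  obtain ⟨c, hc⟩ : ∃ c : (((secR y).op ⋙ bi τ (cd v)).obj (op (ob 0))).left ⟶ pullback f g,
      IsPullback c (((secR y).op ⋙ bi τ (cd v)).map (init (ob 0)).op).left (pullback.snd f g)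
        ((prod.snd : τ.obj (op .star) ⨯ (cd v).obj (op y) ⟶ _).left ≫ k) := by
    rw [h1]
    exact ⟨_, IsPullback.of_right' h2 (IsPullback.of_hasPullback f g)⟩
  exact hf _ (isCech_fg (hτ.prod_right y)) c _ hc

/-- The product with the final object. -/
noncomputable def isoR (τ : Dpᵒᵖ ⥤ Over S) : (secR .star).op ⋙ bi τ (cd v) ≅ τ := by
  have h2 : IsIso ((cd v).obj (op .star)).hom := by
    rw [cd_star_hom]
    exact inferInstanceAs (IsIso (𝟙 S))
  have h3 : IsTerminal ((cd v).obj (op .star)) :=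
    IsTerminal.ofIso Over.mkIdTerminal (Over.isoMk (asIso ((cd v).obj (op .star)).hom) (by simp)).symm
  have h4 : ∀ P : Over S, IsIso (prod.fst : P ⨯ (cd v).obj (op .star) ⟶ P) := fun P =>
    ⟨prod.lift (𝟙 P) (h3.from P), by
      refine Limits.prod.hom_ext ?_ (h3.hom_ext _ _)
      simp, by simp⟩
  exact NatIso.ofComponents (fun x => asIso (prod.fst : τ.obj x ⨯ (cd v).obj (op .star) ⟶ τ.obj x)) (by
    intro x y f
    exact prod.map_fst _ _)

end Main

/-- **Locality** of universal descent. -/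
theorem ud_of_baseChange (hA : BB A) {X T T' : C} (f : X ⟶ T) (g : T' ⟶ T) (hg : UD A g)
    (hf : UD A (pullback.snd f g)) : UD A f := by
  intro τ₀ hτ₀ a b sq
  let S := τ₀.obj (op .star)
  let v : pullback g b ⟶ S := pullback.snd g b
  have hv : UD A v := UD.of_sq (IsPullback.of_hasPullback g b) hg
  let τ : Dpᵒᵖ ⥤ Over S := lift τ₀ (𝟙 S)
  have hτ : IsCech τ := isCech_lift _ hτ₀ (𝟙 S)
  have hstar : (τ.obj (op .star)).hom = 𝟙 S := by
    change τ₀.map (init .star).op ≫ 𝟙 S = _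
    have : (init .star : WithInitial.star ⟶ .star) = 𝟙 _ := Subsingleton.elim _ _
    rw [this, op_id, τ₀.map_id]
    exact Category.id_comp _
  have hb : b = (τ.obj (op .star)).hom ≫ b := by
    rw [hstar]
    exact (Category.id_comp b).symm
  have hR : ∀ n : ℕ, IsDesc (rs (fg ((secR (ob n)).op ⋙ bi τ (cd v))).rightOp A) := by
    intro n
    refine desc_R v hf hτ a b sq (ob n) ((nerve v).map (vtx n 0).op ≫ (nerveZero v).hom ≫ pullback.fst g b) b hb ?_
    rw [Category.assoc, Category.assoc, pullback.condition, nerveZero_hom_assoc, map_vtx_init_assoc]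
    congr 1
    exact (Category.comp_id _).symm
  have h1 := (K61.Fub.fubini (rs (bi τ (cd v) ⋙ Over.forget S).rightOp A) (bb_rs hA _)
      (fun n => hR n) (fun n => desc_L v hv τ (ob n))).1 (desc_L v hv τ .star)
  refine isDesc_rs_of_iso hA (σ := (fg ((secR .star).op ⋙ bi τ (cd v))).rightOp) ?_ h1
  exact rightOpIso (Functor.isoWhiskerRight (isoR v τ) (Over.forget S))

theorem ud_iff_baseChange (hA : BB A) {X T T' : C} (f : X ⟶ T) (g : T' ⟶ T) (hg : UD A g) :
    UD A f ↔ UD A (pullback.snd f g) :=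
  ⟨fun hf => UD.of_sq (IsPullback.of_hasPullback f g) hf, ud_of_baseChange hA f g hg⟩

/-- Cancellation. -/
theorem ud_of_comp (hA : BB A) {X Y T : C} (f : X ⟶ Y) (g : Y ⟶ T) (h : UD A (f ≫ g)) : UD A g :=
  ud_of_baseChange hA g (f ≫ g) h (ud_of_section hA _ (pullback.lift f (𝟙 X) (by simp)) (by simp))

/-- A morphism through which a morphism of universal descent factors. -/
theorem ud_of_fac (hA : BB A) {X Y T : C} (h : X ⟶ T) (f : X ⟶ Y) (g : Y ⟶ T) (hfg : f ≫ g = h) (hh : UD A h) :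
    UD A g := ud_of_comp hA f g (by rwa [hfg])

/-- Composition. -/
theorem ud_comp (hA : BB A) {X Y T : C} (f : X ⟶ Y) (g : Y ⟶ T) (hf : UD A f) (hg : UD A g) : UD A (f ≫ g) :=
  ud_of_baseChange hA (f ≫ g) g hg (ud_of_comp hA (pullback.lift (𝟙 X) f (by simp)) _ (by simpa using hf))

theorem ud_id (hA : BB A) (T : C) : UD A (𝟙 T) := ud_of_section hA _ (𝟙 T) (Category.id_comp _)

theorem isMultiplicative (hA : BB A) : (UD A).IsMultiplicative where
  id_mem T := ud_id hA T
  comp_mem f g hf hg := ud_comp hA f g hf hg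

/-- `X ⟶ T` is of universal descent as soon as its base change along some `g` of universal descent is refined by a
morphism of universal descent. -/
theorem ud_of_refine (hA : BB A) {X T T' Z : C} (f : X ⟶ T) (g : T' ⟶ T) (hg : UD A g) (h : Z ⟶ T') (hh : UD A h)
    (k : Z ⟶ X) (w : k ≫ f = h ≫ g) : UD A f :=
  ud_of_fac hA (h ≫ g) k f w (ud_comp hA h g hh hg)

end over

end K933.UnivDesc
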