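import Groth.Agent.EtDual.K933.UDMap
import Groth.Agent.EtDual.K617.TauCov
import Groth.Agent.EtDual.K148.Perf
import Mathlib.AlgebraicGeometry.Pullbacks
import Mathlib.Algebra.Category.Ring.Colimits
import Mathlib.CategoryTheory.Limits.FullSubcategory
import Mathlib.CategoryTheory.Limits.Constructions.Over.Connected
import Mathlib.CategoryTheory.Limits.Constructions.LimitsOfProductsAndEqualizers

/-!
# The category of perfect algebras over a perfect ring of characteristic `p`

* `isPerf_of_isColimit`;
* `Perf p B₀`: the full subcategory of `Under B₀`; `PC p B₀ = (Perf p B₀)ᵒᵖ` has finite limits;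
* `tcov w`: the `w`-coverings as a `MorphismProperty` of `(Under R₀)ᵒᵖ`, and of `PC p B₀`.
-/

set_option autoImplicit false

universe u v w u' v'

open CategoryTheory CategoryTheory.Limits Opposite

namespace K933.PerfCat

open K148.Perf

variable {p : ℕ} [hp : Fact p.Prime]

/-- The Frobenius of a ring in which `p = 0`. -/
def frob {B : Type u} [CommRing B] (h : (p : B) = 0) : B →+* B where
  toFun x := x ^ p
  map_one' := one_pow p
  map_mul' x y := mul_pow x y p
  map_zero' := zero_pow hp.out.ne_zero
  map_add' x y := by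
    rcases subsingleton_or_nontrivial B with h1 | h1
    · exact Subsingleton.elim _ _
    · have : CharP B p := (CharP.charP_iff_prime_eq_zero hp.out).2 h
      exact add_pow_char x y p

lemma frob_comp {B B' : Type u} [CommRing B] [CommRing B'] (h : (p : B) = 0) (h' : (p : B') = 0) (f : B →+* B') :
    f.comp (frob h) = (frob h').comp f := by
  ext x
  exact map_pow f x p

/-- The Frobenius of a perfect ring as an isomorphism. -/
noncomputable def frobEquiv {B : Type u} [CommRing B] (h : IsPerf p B) : B ≃+* B :=
  RingEquiv.ofBijective (frob h.cast) h.bij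

theorem isPerf_of_isColimit {J : Type v'} [Category.{u'} J] [Nonempty J] {F : J ⥤ CommRingCat.{u}} {c : Cocone F}
    (hc : IsColimit c) (h : ∀ j, IsPerf p (F.obj j)) : IsPerf p c.pt := by
  have hp0 : (p : c.pt) = 0 := by
    obtain ⟨j⟩ := ‹Nonempty J›
    rw [← map_natCast (c.ι.app j).hom, (h j).cast, map_zero]
  let φ : c.pt ⟶ c.pt := CommRingCat.ofHom (frob hp0)
  let e : ∀ j, F.obj j ≅ F.obj j := fun j => (frobEquiv (h j)).toCommRingCatIso
  have he : ∀ j, (e j).hom ≫ c.ι.app j = c.ι.app j ≫ φ := fun j => by
    ext x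
    exact map_pow (c.ι.app j).hom x p
  have hn : ∀ {i j} (f : i ⟶ j), F.map f ≫ (e j).hom = (e i).hom ≫ F.map f := fun f => by
    ext x
    exact (map_pow (F.map f).hom x p).symm
  let ψ : c.pt ⟶ c.pt := hc.desc ⟨c.pt, { app := fun j => (e j).inv ≫ c.ι.app j
                                          naturality := fun i j f => by
                                            have h1 : F.map f ≫ (e j).inv = (e i).inv ≫ F.map f := by
                                              rw [Iso.eq_inv_comp, ← Category.assoc, Iso.comp_inv_eq, hn]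
                                            rw [reassoc_of% h1, c.w]
                                            exact (Category.comp_id _).symm }⟩
  have hψ : ∀ j, c.ι.app j ≫ ψ = (e j).inv ≫ c.ι.app j := fun j => hc.fac _ j
  have h1 : φ ≫ ψ = 𝟙 _ := hc.hom_ext fun j => by
    rw [← Category.assoc, ← he, Category.assoc, hψ, Iso.hom_inv_id_assoc, Category.comp_id]
  have h2 : ψ ≫ φ = 𝟙 _ := hc.hom_ext fun j => by
    rw [← Category.assoc, hψ, Category.assoc, ← he, Iso.inv_hom_id_assoc, Category.comp_id]
  refine ⟨hp0, Function.bijective_iff_has_inverse.2 ⟨ψ, fun x => ?_, fun x => ?_⟩⟩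
  · exact congr($h1 x)
  · exact congr($h2 x)

section perf

variable (p) (B₀ : CommRingCat.{u})

/-- Perfect algebras. -/
def perf : ObjectProperty (Under B₀) := fun B => IsPerf p B.right

instance : (perf p B₀).IsClosedUnderIsomorphisms where
  of_iso e h := IsPerf.of_ringEquiv (((Under.forget B₀).mapIso e).commRingCatIsoToRingEquiv) h

instance (J : Type v') [Category.{u'} J] [IsConnected J] : (perf p B₀).IsClosedUnderColimitsOfShape J where
  colimitsOfShape_le := by
    rintro X ⟨h⟩
    exact isPerf_of_isColimit (isColimitOfPreserves (Under.forget B₀) h.isColimit) h.prop_diag_obj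

/-- The category of perfect algebras. -/
abbrev Perf := (perf p B₀).FullSubcategory

/-- The opposite category. -/
abbrev PC := (Perf p B₀)ᵒᵖ

variable {p B₀}

/-- A perfect algebra as an object. -/
abbrev Perf.mk (B : Under B₀) (h : IsPerf p B.right) : Perf p B₀ := ⟨B, h⟩

/-- The initial object. -/
abbrev Perf.bot (h : IsPerf p B₀) : Perf p B₀ := ⟨Under.mk (𝟙 B₀), h⟩

/-- It is initial. -/
noncomputable def Perf.isInitialBot (h : IsPerf p B₀) : IsInitial (Perf.bot h) :=
  IsInitial.ofUniqueHom (fun X => ObjectProperty.homMk (Under.mkIdInitial.to X.obj)) (fun X f => by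
    apply ObjectProperty.hom_ext
    exact Under.mkIdInitial.hom_ext _ _)

variable (p B₀) in
omit hp in
theorem hasInitial (h : IsPerf p B₀) : HasInitial (Perf p B₀) := (Perf.isInitialBot h).hasInitial

instance : HasPushouts (Perf p B₀) := inferInstance

instance : HasPullbacks (PC p B₀) := inferInstance

theorem hasFiniteLimits (h : IsPerf p B₀) : HasFiniteLimits (PC p B₀) := by
  have := hasInitial p B₀ h
  exact hasFiniteLimits_of_hasTerminal_and_pullbacks

instance : PreservesColimitsOfShape WalkingSpan (perf p B₀).ι := inferInstance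

instance : PreservesLimitsOfShape WalkingCospan (perf p B₀).ι.op :=
  have : PreservesColimitsOfShape WalkingCospanᵒᵖ (perf p B₀).ι :=
    preservesColimitsOfShape_of_equiv walkingCospanOpEquiv.symm _
  preservesLimitsOfShape_op _ _

end perf

section tcov

variable {R₀ : CommRingCat.{u}} (w₀ : R₀)

/-- The image of `w₀` in an algebra. -/
abbrev el (T : (Under R₀)ᵒᵖ) : T.unop.right := T.unop.hom.hom w₀

lemma el_map {X T : (Under R₀)ᵒᵖ} (f : X ⟶ T) : f.unop.right.hom (el w₀ T) = el w₀ X :=
  congr($(Under.w f.unop) w₀)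

/-- The `w₀`-coverings. -/
def tcovU : MorphismProperty (Under R₀)ᵒᵖ := fun _ T f => K617.VC.TauCov (el w₀ T) f.unop.right.hom

instance : (tcovU w₀).IsMultiplicative where
  id_mem T := K617.VC.TauCov.id (el w₀ T)
  comp_mem {X Y Z} f g hf hg := by
    have h1 : K617.VC.TauCov (el w₀ Z) (f.unop.right.hom.comp g.unop.right.hom) :=
      K617.VC.TauCov.comp hg (by rw [el_map]; exact hf)
    exact h1

lemma exists_of_isPushout {A B A' B' : Under R₀} {f : A ⟶ B} {g : A ⟶ A'} {f' : A' ⟶ B'} {g' : B ⟶ B'}
    (sq : IsPushout f g g' f') (V : Type u) [CommRing V] (a : A'.right →+* V) (b : B.right →+* V)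
    (h : b.comp f.right.hom = a.comp g.right.hom) : ∃ c : B'.right →+* V, c.comp f'.right.hom = a := by
  have h2 := sq.map (Under.forget R₀)
  let a' : A'.right ⟶ CommRingCat.of V := CommRingCat.ofHom a
  let b' : B.right ⟶ CommRingCat.of V := CommRingCat.ofHom b
  have h3 : f.right ≫ b' = g.right ≫ a' := by
    ext x
    exact congr($h x)
  refine ⟨(h2.desc b' a' h3).hom, ?_⟩
  have h4 := h2.inr_desc b' a' h3
  ext x
  exact congr($h4 x)

instance : (tcovU w₀).IsStableUnderBaseChange where
  of_isPullback {X Y Y' S' f g f' g'} sq h := by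
    have h1 : K617.VC.TauCov (f.unop.right.hom (el w₀ _)) g'.unop.right.hom := by
      refine K617.VC.TauCov.of_weakPushout h f.unop.right.hom g'.unop.right.hom fun V _ a b hab => ?_
      exact exists_of_isPushout sq.flip.unop V a b hab
    rw [el_map] at h1
    exact h1

end tcov

section pts

/-- The polynomial ring in `d` variables over the integers. -/
noncomputable abbrev Pd (d : ℕ) : CommRingCat.{u} := CommRingCat.of (MvPolynomial (Fin d) (ULift.{u} ℤ))

variable {d : ℕ}

/-- Evaluation. -/
noncomputable def evP {R : Type u} [CommRing R] (g : Fin d → R) : MvPolynomial (Fin d) (ULift.{u} ℤ) →+* R :=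
  MvPolynomial.eval₂Hom ((Int.castRingHom R).comp ULift.ringEquiv.toRingHom) g

@[simp]
lemma evP_X {R : Type u} [CommRing R] (g : Fin d → R) (i : Fin d) : evP g (MvPolynomial.X i) = g i :=
  MvPolynomial.eval₂Hom_X' _ _ _

lemma hom_ext_P {R : Type u} [CommRing R] {f f' : MvPolynomial (Fin d) (ULift.{u} ℤ) →+* R}
    (h : ∀ i, f (MvPolynomial.X i) = f' (MvPolynomial.X i)) : f = f' := by
  refine MvPolynomial.ringHom_ext' ?_ h
  have h1 : ∀ a b : ULift.{u} ℤ →+* R, a = b := fun a b => by
    have h2 : a.comp (ULift.ringEquiv (R := ℤ)).symm.toRingHom = b.comp (ULift.ringEquiv (R := ℤ)).symm.toRingHom :=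
      RingHom.ext_int _ _
    ext x
    exact congr($h2 x.down)
  exact h1 _ _

lemma comp_evP {R R' : Type u} [CommRing R] [CommRing R'] (φ : R →+* R') {g : Fin d → R} {g' : Fin d → R'}
    (h : ∀ i, φ (g i) = g' i) : φ.comp (evP g) = evP g' :=
  hom_ext_P fun i => by rw [RingHom.comp_apply, evP_X, evP_X, h]

/-- A ring with `d` elements. -/
noncomputable abbrev ptU (R : Type u) [CommRing R] (g : Fin d → R) : Under (Pd.{u} d) :=
  Under.mk (Y := CommRingCat.of R) (CommRingCat.ofHom (evP g))

/-- A morphism of rings with `d` elements. -/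
noncomputable abbrev ptUMap {R R' : Type u} [CommRing R] [CommRing R'] (φ : R →+* R') {g : Fin d → R}
    {g' : Fin d → R'} (h : ∀ i, φ (g i) = g' i) : ptU R g ⟶ ptU R' g' :=
  Under.homMk (CommRingCat.ofHom φ) (CommRingCat.hom_ext (comp_evP φ h))

open AlgebraicGeometry

/-- Affine schemes over `Spec A`. -/
noncomputable def spU (A : CommRingCat.{u}) : (Under A)ᵒᵖ ⥤ Over (Spec A) where
  obj B := Over.mk (Spec.map B.unop.hom)
  map f := Over.homMk (Spec.map f.unop.right) (by
    change Spec.map f.unop.right ≫ Spec.map _ = Spec.map _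
    rw [← Spec.map_comp, Under.w])
  map_id B := by
    ext1
    exact Spec.map_id _
  map_comp f g := by
    ext1
    exact Spec.map_comp _ _

lemma spU_forget (A : CommRingCat.{u}) : spU A ⋙ Over.forget (Spec A) = (Under.forget A).op ⋙ Scheme.Spec := rfl

instance (A : CommRingCat.{u}) : PreservesLimitsOfShape WalkingCospan (spU A) := by
  have h0 : PreservesColimitsOfShape WalkingCospanᵒᵖ (Under.forget A) :=
    preservesColimitsOfShape_of_equiv walkingCospanOpEquiv.symm _
  have h1 : PreservesLimitsOfShape WalkingCospan (Under.forget A).op := preservesLimitsOfShape_op _ _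
  have h2 : PreservesLimitsOfShape WalkingCospan (spU A ⋙ Over.forget (Spec A)) := by
    rw [spU_forget]
    infer_instance
  exact preservesLimitsOfShape_of_reflects_of_preserves (spU A) (Over.forget (Spec A))

end pts

section ptFun

open AlgebraicGeometry

variable {R₀ : CommRingCat.{u}} {d : ℕ} (x : Fin d → R₀)

/-- The functor `R ↦ (R, x)`. -/
noncomputable def ptFun : Under R₀ ⥤ Under (Pd.{u} d) where
  obj R := ptU R.right (fun i => R.hom.hom (x i))
  map f := ptUMap f.right.hom (fun i => congr($(Under.w f) (x i)))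
  map_id R := by
    apply Under.UnderMorphism.ext
    rfl
  map_comp f g := by
    apply Under.UnderMorphism.ext
    rfl

lemma ptFun_forget : ptFun x ⋙ Under.forget _ = Under.forget R₀ := rfl

instance : PreservesColimitsOfShape WalkingSpan (ptFun x) := by
  have h2 : PreservesColimitsOfShape WalkingSpan (ptFun x ⋙ Under.forget _) := by
    rw [ptFun_forget]
    infer_instance
  exact preservesColimitsOfShape_of_reflects_of_preserves (ptFun x) (Under.forget _)

instance : PreservesLimitsOfShape WalkingCospan (ptFun x).op :=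
  have : PreservesColimitsOfShape WalkingCospanᵒᵖ (ptFun x) :=
    preservesColimitsOfShape_of_equiv walkingCospanOpEquiv.symm _
  preservesLimitsOfShape_op _ _

/-- The functor `R ↦ (Spec R, x)`. -/
noncomputable abbrev ptO : (Under R₀)ᵒᵖ ⥤ Over (Spec (Pd.{u} d)) := (ptFun x).op ⋙ spU _

end ptFun

section F2

variable {B₀ : CommRingCat.{u}} {d : ℕ} (x : Fin d → B₀)

variable (p) in
/-- The functor `B ↦ (B, x)`. -/
noncomputable abbrev F2 : Perf p B₀ ⥤ Under (Pd.{u} d) := (perf p B₀).ι ⋙ ptFun x

lemma F2_obj (B : Perf p B₀) : (F2 p x).obj B = ptU B.obj.right (fun i => B.obj.hom.hom (x i)) := rfl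

instance : PreservesLimitsOfShape WalkingCospan (F2 p x).op :=
  inferInstanceAs (PreservesLimitsOfShape WalkingCospan ((perf p B₀).ι.op ⋙ (ptFun x).op))

end F2

end K933.PerfCat
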