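import Groth.Agent.EtDual.K933.HensIn
import Groth.Agent.EtDual.K855.HensQ

/-!
# Invariance of cohomology with supports under maps which are isomorphisms modulo all powers
-/

set_option autoImplicit false
set_option backward.isDefEq.respectTransparency false
set_option backward.isDefEq.respectTransparency.types false

universe u v w u' v'

open CategoryTheory CategoryTheory.Limits Opposite AlgebraicGeometry Ideal

noncomputable section

namespace K933.HU

open Groth.Agent.Etrest Groth.Agent.Etrest.BigEtSite K343.Basic K343.Res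
open Groth.Agent.Etcore.HpullCalc Groth.Agent.Etcore.EtInst Groth.Agent.Etcore.LimDeg0
open K855.NatCmp K855.HomCmp K152.Fib K617.UDQuasi K617.EtNbhd K617.PerfUD K933.PerfCat K933.LimQ K933.Main K933.HensLim
open K781.Desc K728.HensRing K146.EtNbhd
open scoped Groth.Agent.Etcore.EtInst

attribute [local instance] isGrothendieckAbelian_AbK

variable {K : GrothendieckTopology Scheme.{u}} {d : ℕ} [Good K] [ContK K (Spec (Pd.{u} d))]
  {F : EtCoh.Ab (Spec (Pd.{u} d))} (hF : EtCoh.IsTorsion F)
  (J : InjectiveResolution ((aPullK K (Spec (Pd.{u} d))).obj F))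
  (hv : ∀ (V : Over (Spec (Pd.{u} d))) (q : ℕ), 0 < q →
    IsZero (((uResK K V.hom).rightDerived q).obj ((aPullK K (Spec (Pd.{u} d))).obj F)))
  {Y₀ : Scheme.{u}} (e : Y₀ ⟶ Spec (Pd.{u} d)) [IsOpenImmersion e] [QuasiCompact e]
  (he : Set.range e = (PrimeSpectrum.zeroLocus
    (Set.range (MvPolynomial.X : Fin d → MvPolynomial (Fin d) (ULift.{u} ℤ))))ᶜ)

include hF hv he in
/-- **Completion**: invariance under maps which are isomorphisms modulo all `aⁿ`, `a` in the radical of `(x)`. -/
theorem hu {R₀ : CommRingCat.{u}} (x : Fin d → R₀) (a : R₀) (ha : a ∈ (Ideal.span (Set.range x)).radical)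
    (hV : HV (KF e (psh J)) x) (hadd : HAdd (rs (ptO x).op (KF e (psh J))) a) : HU (KF e (psh J)) x a := by
  have hb : BB (rs (ptO x).op (KF e (psh J))) :=
    K933.UnivDesc.bb_rs (bb_KF ⟨0, fun i hi => isZero_psh J i hi⟩) _
  refine K152.HensSq.qMap_of_ce (A := rs (ptO x).op (KF e (psh J)))
    (K855.HensQ.qMap_ptO hF J hv e he x a ha) ?_
  exact K933.HensIn.qMap_isHens J hv e x a fun X Y f h1 h2 => (uq_of_etale hb hV hadd f h1 h2).qMap

end K933.HU
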