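import Groth.Agent.EtDual.K933.HensLim
import Groth.Agent.EtDual.K617.EtNbhd
import Groth.Agent.EtDual.K152.HensSq

/-!
# Cohomology with supports and henselization of a pair, on the category of algebras over `R₀`
-/

set_option autoImplicit false
set_option backward.isDefEq.respectTransparency false
set_option backward.isDefEq.respectTransparency.types false

universe u v w u' v'

open CategoryTheory CategoryTheory.Limits Opposite AlgebraicGeometry Ideal

noncomputable section

namespace K933.HensIn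

open Groth.Agent.Etrest Groth.Agent.Etrest.BigEtSite K343.Basic K343.Res
open Groth.Agent.Etcore.HpullCalc Groth.Agent.Etcore.EtInst Groth.Agent.Etcore.LimDeg0
open K855.NatCmp K855.HomCmp K152.Fib K617.UDQuasi K617.EtNbhd K933.PerfCat K933.LimQ K933.Main K933.HensLim
open K781.Desc K728.HensRing K146.EtNbhd
open scoped Groth.Agent.Etcore.EtInst

attribute [local instance] isGrothendieckAbelian_AbK

variable {K : GrothendieckTopology Scheme.{u}} {d : ℕ} [Good K] [ContK K (Spec (Pd.{u} d))]
  {F : EtCoh.Ab (Spec (Pd.{u} d))} (J : InjectiveResolution ((aPullK K (Spec (Pd.{u} d))).obj F))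
  (hv : ∀ (V : Over (Spec (Pd.{u} d))) (q : ℕ), 0 < q →
    IsZero (((uResK K V.hom).rightDerived q).obj ((aPullK K (Spec (Pd.{u} d))).obj F)))
  {Y₀ : Scheme.{u}} (e : Y₀ ⟶ Spec (Pd.{u} d)) [IsOpenImmersion e] [QuasiCompact e]

lemma modBij_of_qb {A A' : Type u} [CommRing A] [CommRing A'] [Algebra A A'] {a : A} (h : QB A (span {a}) A') :
    ModBij a (algebraMap A A') := by
  rw [qb_iff] at h
  have h0 : ∀ y : A', y ∈ (span {a}).map (algebraMap A A') ↔ algebraMap A A' a ∣ y := fun y => by
    rw [Ideal.map_span, Set.image_singleton, Ideal.mem_span_singleton]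
  refine ⟨fun y => ?_, fun x hx => ?_⟩
  · obtain ⟨x, hx⟩ := h.2 y
    exact ⟨x, (h0 _).1 hx⟩
  · exact Ideal.mem_span_singleton.1 (h.1 x ((h0 _).2 hx))

include hv in
/-- **The henselization of a pair.** -/
theorem qMap_isHens {R₀ : CommRingCat.{u}} (x : Fin d → R₀) (a : R₀)
    (hEt : ∀ ⦃X Y : (Under R₀)ᵒᵖ⦄ (f : X ⟶ Y), f.unop.right.hom.Etale → ModBij (el a Y) f.unop.right.hom →
      QMap (rs (ptO x).op (KF e (psh J))) f)
    ⦃X Y : (Under R₀)ᵒᵖ⦄ (f : X ⟶ Y) (hf : IsHens (span {el a Y}) f.unop.right.hom) :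
    QMap (rs (ptO x).op (KF e (psh J))) f := by
  let φ := f.unop.right.hom
  let g : Fin d → Y.unop.right := fun i => Y.unop.hom.hom (x i)
  let := φ.toAlgebra
  have key : ∀ (g' : Fin d → X.unop.right) (h : ∀ i, φ (g i) = g' i), QMap (KF e (psh J)) (ptSMap φ h) := by
    intro g' h
    obtain rfl : (fun i => φ (g i)) = g' := funext h
    refine qMap_hens J hv e (A := Y.unop.right) (B := X.unop.right) hf g fun A' _ _ _ hq => ?_
    let X' : (Under R₀)ᵒᵖ := op (Under.mk (Y.unop.hom ≫ CommRingCat.ofHom (algebraMap Y.unop.right A')))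
    let f' : X' ⟶ Y := (Under.homMk (CommRingCat.ofHom (algebraMap Y.unop.right A')) rfl : Y.unop ⟶ X'.unop).op
    have h1 : (algebraMap Y.unop.right A').Etale := RingHom.etale_algebraMap.2 inferInstance
    have h2 : ModBij (el a Y) (algebraMap Y.unop.right A') := modBij_of_qb hq
    exact hEt f' h1 h2
  exact key (fun i => X.unop.hom.hom (x i)) (fun i => congr($(Under.w f.unop) (x i)))

end K933.HensIn
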