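import Groth.Agent.EtDual.K933.LimQ
import Groth.Agent.EtDual.K933.Main
import Groth.Agent.Hensel.K143.FpColim
import Groth.Agent.Hensel.K146.EtNbhd
import Groth.Agent.Hensel.K144.Factor

/-!
# Cohomology with supports and henselization of a pair

`(A, I)` a pair with henselization `B`: `B` is the colimit (in `Under A`, over a small filtered category) of the étale
neighbourhoods of `(A, I)`; if `A ⟶ A'` induces quasi-isomorphisms on the complex with supports for all étale
neighbourhoods then so does `A ⟶ B`.
-/

set_option autoImplicit false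
set_option backward.isDefEq.respectTransparency false
set_option backward.isDefEq.respectTransparency.types false

universe u v w u' v'

open CategoryTheory CategoryTheory.Limits Opposite AlgebraicGeometry

noncomputable section

namespace K933.HensLim

open K143.FpColim K146.EtNbhd

section ring

variable {A : Type u} [CommRing A] {I : Ideal A} {B : Type u} [CommRing B] [Algebra A B]

lemma qb_of_equiv {A' A'' : Type u} [CommRing A'] [Algebra A A'] [CommRing A''] [Algebra A A''] (e : A' ≃ₐ[A] A'')
    (h : QB A I A') : QB A I A'' := by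
  have h0 : (I.map (algebraMap A A')).map (e : A' →+* A'') = I.map (algebraMap A A'') := by
    rw [Ideal.map_map]
    congr 1
    ext x
    exact e.commutes x
  have h0' : (I.map (algebraMap A A'')).map (e.symm : A'' →+* A') = I.map (algebraMap A A') := by
    rw [Ideal.map_map]
    congr 1
    ext x
    exact e.symm.commutes x
  rw [qb_iff] at h ⊢
  refine ⟨fun a ha => h.1 a ?_, fun x => ?_⟩
  · have h1 := Ideal.mem_map_of_mem (e.symm : A'' →+* A') ha
    rw [h0'] at h1
    have h2 : (e.symm : A'' →+* A') (algebraMap A A'' a) = algebraMap A A' a := e.symm.commutes a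
    rwa [h2] at h1
  · obtain ⟨a, ha⟩ := h.2 (e.symm x)
    refine ⟨a, ?_⟩
    have h1 := Ideal.mem_map_of_mem (e : A' →+* A'') ha
    rw [h0] at h1
    have h2 : (e : A' →+* A'') (e.symm x - algebraMap A A' a) = x - algebraMap A A'' a := by
      change e (e.symm x - algebraMap A A' a) = _
      rw [map_sub, e.apply_symm_apply, e.commutes]
    rwa [h2] at h1

variable (I) in
/-- The étale neighbourhoods among the finitely presented algebras over `B`. -/
def nb : ObjectProperty (Idx A B) := fun i => Algebra.Etale A i.Alg ∧ QB A I i.Alg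

theorem exists_nb (hB : Hens2.IsPairHenselization A I B) (i : Idx A B) :
    ∃ j : (nb (B := B) I).FullSubcategory, Nonempty (i ⟶ j.obj) := by
  obtain ⟨A', _, _, hA', hq, ψ, χ, h⟩ := K144.Factor.exists_factor hB i.σ
  obtain ⟨k, e, he⟩ := exists_idx A' χ
  refine ⟨⟨k, Algebra.Etale.of_equiv e, qb_of_equiv e hq⟩, ⟨⟨e.toAlgHom.comp ψ, ?_⟩⟩⟩
  rw [← AlgHom.comp_assoc, he, h]

variable (B) in
/-- The small category of étale neighbourhoods. -/
abbrev Nb (I : Ideal A) := (nb (B := B) I).FullSubcategory

theorem isFiltered_nb (hB : Hens2.IsPairHenselization A I B) : IsFiltered (Nb B I) :=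
  IsFiltered.of_exists_of_isFiltered_of_fullyFaithful (nb (B := B) I).ι (exists_nb hB)

theorem final_nb (hB : Hens2.IsPairHenselization A I B) : (nb (B := B) I).ι.Final :=
  Functor.final_of_exists_of_isFiltered_of_fullyFaithful (nb (B := B) I).ι (exists_nb hB)

variable (B) in
/-- The diagram of étale neighbourhoods. -/
abbrev nbF (I : Ideal A) : Nb B I ⥤ Under (CommRingCat.of A) := (nb (B := B) I).ι ⋙ K143.FpColim.functor A B

variable (B) in
/-- The cocone with vertex the henselization. -/
abbrev nbC (I : Ideal A) : Cocone (nbF B I) := (K143.FpColim.cocone A B).whisker (nb (B := B) I).ι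

theorem nonempty_isColimit (hB : Hens2.IsPairHenselization A I B) : Nonempty (IsColimit (nbC B I)) := by
  have := final_nb hB
  exact ⟨(Functor.Final.isColimitWhiskerEquiv (nb (B := B) I).ι (K143.FpColim.cocone A B)).symm K143.FpColim.isColimit⟩

end ring

section preserves

open K933.PerfCat

variable {d : ℕ}

instance preserves_ptFun {R₀ : CommRingCat.{u}} (x : Fin d → R₀) (J : Type v') [Category.{u'} J] [IsConnected J] :
    PreservesColimitsOfShape J (ptFun x) := by
  have h2 : PreservesColimitsOfShape J (ptFun x ⋙ Under.forget _) := by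
    rw [ptFun_forget]
    infer_instance
  exact preservesColimitsOfShape_of_reflects_of_preserves (ptFun x) (Under.forget _)

instance preserves_spU (A : CommRingCat.{u}) (J : Type v') [Category.{u'} J] [IsConnected J] :
    PreservesLimitsOfShape J (spU A) := by
  have h0 : PreservesColimitsOfShape Jᵒᵖ (Under.forget A) := inferInstance
  have h1 : PreservesLimitsOfShape J (Under.forget A).op := preservesLimitsOfShape_op _ _
  have h2 : PreservesLimitsOfShape J (spU A ⋙ Over.forget (Spec A)) := by
    rw [spU_forget]
    infer_instance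
  exact preservesLimitsOfShape_of_reflects_of_preserves (spU A) (Over.forget (Spec A))

instance preserves_ptO {R₀ : CommRingCat.{u}} (x : Fin d → R₀) (J : Type v') [Category.{u'} J] [IsConnected J] :
    PreservesLimitsOfShape J (ptO x) := by
  have h1 : PreservesLimitsOfShape J (ptFun x).op := preservesLimitsOfShape_op _ _
  exact inferInstanceAs (PreservesLimitsOfShape J ((ptFun x).op ⋙ spU _))

end preserves

section main

open Groth.Agent.Etrest Groth.Agent.Etrest.BigEtSite K343.Basic K343.Res
open Groth.Agent.Etcore.HpullCalc Groth.Agent.Etcore.EtInst Groth.Agent.Etcore.LimDeg0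
open K855.NatCmp K855.HomCmp K152.Fib K617.UDQuasi K933.PerfCat K933.LimQ K933.Main
open scoped Groth.Agent.Etcore.EtInst

attribute [local instance] isGrothendieckAbelian_AbK

variable {K : GrothendieckTopology Scheme.{u}} {d : ℕ} [Good K] [ContK K (Spec (Pd.{u} d))]
  {F : EtCoh.Ab (Spec (Pd.{u} d))} (J : InjectiveResolution ((aPullK K (Spec (Pd.{u} d))).obj F))
  (hv : ∀ (V : Over (Spec (Pd.{u} d))) (q : ℕ), 0 < q →
    IsZero (((uResK K V.hom).rightDerived q).obj ((aPullK K (Spec (Pd.{u} d))).obj F)))
  {Y₀ : Scheme.{u}} (e : Y₀ ⟶ Spec (Pd.{u} d)) [IsOpenImmersion e] [QuasiCompact e]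

/-- The morphism of points attached to a ring map. -/
abbrev ptSMap {R R' : Type u} [CommRing R] [CommRing R'] (φ : R →+* R') {g : Fin d → R}
    {g' : Fin d → R'} (h : ∀ i, φ (g i) = g' i) : ptS R' g' ⟶ ptS R g :=
  (spU (Pd.{u} d)).map (ptUMap φ h).op

include hv in
/-- **The henselization of a pair.** -/
theorem qMap_hens {A : Type u} [CommRing A] {I : Ideal A} {B : Type u} [CommRing B] [Algebra A B]
    (hB : Hens2.IsPairHenselization A I B) (g : Fin d → A)
    (h : ∀ (A' : Type u) [CommRing A'] [Algebra A A'] [Algebra.Etale A A'], QB A I A' →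
      QMap (KF e (psh J)) (ptSMap (algebraMap A A') (g := g) (fun _ => rfl))) :
    QMap (KF e (psh J)) (ptSMap (algebraMap A B) (g := g) (fun _ => rfl)) := by
  have hF := isFiltered_nb hB
  have hcf : IsCofiltered (Nb B I)ᵒᵖ := isCofiltered_op_of_isFiltered _
  have hcon : IsConnected (Nb B I)ᵒᵖ := IsCofiltered.isConnected _
  obtain ⟨hc⟩ := nonempty_isColimit hB
  let D : (Nb B I)ᵒᵖ ⥤ Over (Spec (Pd.{u} d)) := (nbF B I).op ⋙ ptO (R₀ := CommRingCat.of A) g
  let c : Cone D := (ptO (R₀ := CommRingCat.of A) g).mapCone (nbC B I).op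
  have hl : IsLimit c := isLimitOfPreserves (ptO (R₀ := CommRingCat.of A) g) hc.op
  have h1 : ∀ i : (Nb B I)ᵒᵖ, D.obj i = ptS i.unop.obj.Alg (fun j => algebraMap A _ (g j)) := fun i => rfl
  refine qMap_limit J hv D (fun f => ?_) (fun i => ?_) (fun i => ?_) c hl e
    (fun i => ptSMap (algebraMap A i.unop.obj.Alg) (g := g) (fun _ => rfl)) (fun {i j} f => ?_) _ (fun i => ?_)
    (fun i => ?_)
  · exact inferInstanceAs (IsAffineHom (Spec.map _))
  · exact inferInstanceAs (CompactSpace (Spec (CommRingCat.of i.unop.obj.Alg)))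
  · exact inferInstanceAs (QuasiSeparatedSpace (Spec (CommRingCat.of i.unop.obj.Alg)))
  · refine ((spU (Pd.{u} d)).map_comp _ _).symm.trans (congrArg (spU (Pd.{u} d)).map (Quiver.Hom.unop_inj ?_))
    apply Under.UnderMorphism.ext
    apply CommRingCat.hom_ext
    ext y
    exact f.unop.hom.1.commutes y
  · refine ((spU (Pd.{u} d)).map_comp _ _).symm.trans (congrArg (spU (Pd.{u} d)).map (Quiver.Hom.unop_inj ?_))
    apply Under.UnderMorphism.ext
    apply CommRingCat.hom_ext
    ext y
    exact i.unop.obj.σ.commutes y
  · have h3 := i.unop.property.1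
    exact h i.unop.obj.Alg i.unop.property.2

end main

end K933.HensLim
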