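import Groth.Agent.EtDual.K617.UDQuasi
import Groth.Agent.EtDual.K855.LimCx
import Groth.Agent.EtDual.K152.Fib

/-!
# Cohomology with supports and limits

`CoL A c`: the homology of the presheaf complex `A` at the vertex of the cone `c` over a cofiltered diagram is the
colimit of the homology at the stages.
* `CoL.ses₁`: stability in short exact sequences;
* `qMap_of_coL`: if all `A(T) ⟶ A(E i)` are quasi-isomorphisms then so is `A(T) ⟶ A(lim E)`;
* `coL_KF`: the case of the complex with supports of an injective resolution.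
-/

set_option autoImplicit false
set_option backward.isDefEq.respectTransparency false
set_option backward.isDefEq.respectTransparency.types false

universe u v w u' v' u'' v''

open CategoryTheory CategoryTheory.Limits Opposite ComplexShape AlgebraicGeometry

namespace K933.LimQ

open K781.Desc K617.UDQuasi

section pre

variable {C : Type u} [Category.{v} C] {I : Type u'} [Category.{v'} I] {E : I ⥤ C}

/-- The restriction map. -/
abbrev rr (P : Cᵒᵖ ⥤ AddCommGrpCat.{w}) {X Y : C} (f : X ⟶ Y) : P.obj (op Y) →+ P.obj (op X) := (P.map f.op).hom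

/-- The projections. -/
abbrev pj (c : Cone E) (j : I) : c.pt ⟶ E.obj j := c.π.app j

/-- Sections over the limit come from a finite stage. -/
def Sur (P : Cᵒᵖ ⥤ AddCommGrpCat.{w}) (c : Cone E) : Prop :=
  ∀ ξ : P.obj (op c.pt), ∃ (j : I) (η : P.obj (op (E.obj j))), rr P (pj c j) η = ξ

/-- Sections vanishing at the limit vanish at a finite stage. -/
def Inj (P : Cᵒᵖ ⥤ AddCommGrpCat.{w}) (c : Cone E) : Prop :=
  ∀ (j : I) (η : P.obj (op (E.obj j))), rr P (pj c j) η = 0 → ∃ (k : I) (f : k ⟶ j), rr P (E.map f) η = 0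

variable {c : Cone E}

lemma rr_rr (P : Cᵒᵖ ⥤ AddCommGrpCat.{w}) {X Y Z : C} (f : X ⟶ Y) (g : Y ⟶ Z) (x : P.obj (op Z)) :
    rr P f (rr P g x) = rr P (f ≫ g) x := by
  rw [rr, rr, rr, op_comp, P.map_comp]
  rfl

lemma nat_apply {P Q : Cᵒᵖ ⥤ AddCommGrpCat.{w}} (α : P ⟶ Q) {X Y : C} (f : X ⟶ Y) (x : P.obj (op Y)) :
    α.app (op X) (rr P f x) = rr Q f (α.app (op Y) x) := congr($(α.naturality f.op) x)

lemma cone_rr (P : Cᵒᵖ ⥤ AddCommGrpCat.{w}) {j k : I} (f : k ⟶ j) (x : P.obj (op (E.obj j))) :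
    rr P (pj c k) (rr P (E.map f) x) = rr P (pj c j) x := by
  rw [rr_rr]
  congr 2
  exact c.w f

/-- Exactness at each object. -/
def Ex {P Q R : Cᵒᵖ ⥤ AddCommGrpCat.{w}} (α : P ⟶ Q) (β : Q ⟶ R) : Prop :=
  (∀ (V : C) (x : P.obj (op V)), β.app (op V) (α.app (op V) x) = 0) ∧
    ∀ (V : C) (y : Q.obj (op V)), β.app (op V) y = 0 → ∃ x : P.obj (op V), α.app (op V) x = y

variable [IsCofiltered I]

theorem sur_of {P₃ Q₁ Q₂ Q₃ : Cᵒᵖ ⥤ AddCommGrpCat.{w}} (δ : P₃ ⟶ Q₁) (a : Q₁ ⟶ Q₂) (b : Q₂ ⟶ Q₃)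
    (e1 : Ex δ a) (e2 : Ex a b) (s3 : Sur P₃ c) (s2 : Sur Q₂ c) (i3 : Inj Q₃ c) : Sur Q₁ c := by
  intro ξ
  obtain ⟨j, η, hη⟩ := s2 (a.app (op c.pt) ξ)
  obtain ⟨k, f, hf⟩ := i3 j (b.app (op (E.obj j)) η) (by
    rw [← nat_apply, hη]
    exact e2.1 _ ξ)
  rw [← nat_apply] at hf
  obtain ⟨ζ, hζ⟩ := e2.2 _ _ hf
  have h1 : a.app (op c.pt) (ξ - rr Q₁ (pj c k) ζ) = 0 := by
    rw [map_sub, nat_apply, hζ, cone_rr, hη, sub_self]
  obtain ⟨θ, hθ⟩ := e1.2 _ _ h1
  obtain ⟨l, θ', hθ'⟩ := s3 θ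
  obtain ⟨m, f1, f2, -⟩ := IsCofilteredOrEmpty.cone_objs k l
  refine ⟨m, rr Q₁ (E.map f1) ζ + δ.app (op (E.obj m)) (rr P₃ (E.map f2) θ'), ?_⟩
  rw [map_add, cone_rr, ← nat_apply, cone_rr, hθ', hθ, add_sub_cancel]

theorem inj_of {P₂ P₃ Q₁ Q₂ : Cᵒᵖ ⥤ AddCommGrpCat.{w}} (b : P₂ ⟶ P₃) (δ : P₃ ⟶ Q₁) (a : Q₁ ⟶ Q₂)
    (e1 : Ex b δ) (e2 : Ex δ a) (s2 : Sur P₂ c) (i3 : Inj P₃ c) (j2 : Inj Q₂ c) : Inj Q₁ c := by
  intro j η hη
  obtain ⟨k, f, hf⟩ := j2 j (a.app (op (E.obj j)) η) (by rw [← nat_apply, hη, map_zero])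
  rw [← nat_apply] at hf
  obtain ⟨ζ, hζ⟩ := e2.2 _ _ hf
  have h1 : δ.app (op c.pt) (rr P₃ (pj c k) ζ) = 0 := by
    rw [nat_apply, hζ, cone_rr, hη]
  obtain ⟨θ, hθ⟩ := e1.2 _ _ h1
  obtain ⟨l, θ', hθ'⟩ := s2 θ
  obtain ⟨m, f1, f2, -⟩ := IsCofilteredOrEmpty.cone_objs k l
  obtain ⟨n, g, hg⟩ := i3 m (rr P₃ (E.map f1) ζ - b.app (op (E.obj m)) (rr P₂ (E.map f2) θ')) (by
    rw [map_sub, cone_rr, ← nat_apply, cone_rr, hθ', hθ, sub_self])
  refine ⟨n, g ≫ f1 ≫ f, ?_⟩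
  rw [map_sub, sub_eq_zero] at hg
  have h2 : rr Q₁ (E.map (g ≫ f1 ≫ f)) η = δ.app (op (E.obj n)) (rr P₃ (E.map g) (rr P₃ (E.map f1) ζ)) := by
    rw [nat_apply, nat_apply, hζ, rr_rr, rr_rr, E.map_comp, E.map_comp, Category.assoc]
  rw [h2, hg, ← nat_apply]
  exact e1.1 _ _

end pre

section hom

variable {C : Type u} [Category.{v} C] {I : Type u'} [Category.{v'} I] {E : I ⥤ C} {c : Cone E}

/-- The homology at the vertex is the colimit of the homology at the stages. -/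
def CoL (A : CochainComplex (Cᵒᵖ ⥤ AddCommGrpCat.{w}) ℤ) (c : Cone E) : Prop :=
  ∀ n : ℤ, Sur (A.homology n) c ∧ Inj (A.homology n) c

lemma ex_of_exact {S : ShortComplex (Cᵒᵖ ⥤ AddCommGrpCat.{w})} (hS : S.Exact) : Ex S.f S.g := by
  refine ⟨fun V x => ?_, fun V y hy => ?_⟩
  · have h0 : (S.f ≫ S.g).app (op V) = 0 := by
      rw [S.zero]
      rfl
    exact congr($h0 x)
  · have h1 := hS.map ((evaluation _ _).obj (op V))
    exact (ShortComplex.ab_exact_iff _).1 h1 y hy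

theorem CoL.ses₁ [IsCofiltered I] {S : ShortComplex (CochainComplex (Cᵒᵖ ⥤ AddCommGrpCat.{w}) ℤ)}
    (hS : S.ShortExact) (h2 : CoL S.X₂ c) (h3 : CoL S.X₃ c) : CoL S.X₁ c := by
  intro n
  have hr : (up ℤ).Rel (n - 1) n := by
    rw [up_Rel]
    lia
  have a1 := ex_of_exact (hS.homology_exact₁ (n - 1) n hr)
  have a2 := ex_of_exact (hS.homology_exact₂ n)
  have a3 := ex_of_exact (hS.homology_exact₃ (n - 1) n hr)
  exact ⟨sur_of _ _ _ a1 a2 (h3 (n - 1)).1 (h2 n).1 (h3 n).2, inj_of _ _ _ a3 a1 (h2 (n - 1)).1 (h3 (n - 1)).2 (h2 n).2⟩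

/-- The homology of the values. -/
noncomputable abbrev evV (V : C) : CochainComplex (Cᵒᵖ ⥤ AddCommGrpCat.{w}) ℤ ⥤ CochainComplex AddCommGrpCat.{w} ℤ :=
  ((evaluation Cᵒᵖ AddCommGrpCat.{w}).obj (op V)).mapHomologicalComplex (up ℤ)

/-- The restriction maps of the values. -/
noncomputable abbrev evR (A : CochainComplex (Cᵒᵖ ⥤ AddCommGrpCat.{w}) ℤ) {V V' : C} (f : V' ⟶ V) :
    (evV V).obj A ⟶ (evV V').obj A :=
  (NatTrans.mapHomologicalComplex ((evaluation Cᵒᵖ AddCommGrpCat.{w}).map f.op) (up ℤ)).app A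

/-- The homology of the values. -/
noncomputable def hI (A : CochainComplex (Cᵒᵖ ⥤ AddCommGrpCat.{w}) ℤ) (V : C) (n : ℤ) :
    ((evV V).obj A).homology n ≅ (A.homology n).obj (op V) :=
  (A.sc n).mapHomologyIso ((evaluation Cᵒᵖ AddCommGrpCat.{w}).obj (op V))

lemma hI_nat (A : CochainComplex (Cᵒᵖ ⥤ AddCommGrpCat.{w}) ℤ) {V V' : C} (f : V' ⟶ V) (n : ℤ) :
    HomologicalComplex.homologyMap (evR A f) n ≫ (hI A V' n).hom = (hI A V n).hom ≫ (A.homology n).map f.op := by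
  have h1 := NatTrans.app_homology ((evaluation Cᵒᵖ AddCommGrpCat.{w}).map f.op) (A.sc n)
  have h2 : (A.homology n).map f.op = (hI A V n).inv ≫ HomologicalComplex.homologyMap (evR A f) n ≫ (hI A V' n).hom := h1
  rw [h2, Iso.hom_inv_id_assoc]

theorem qMap_iff (A : CochainComplex (Cᵒᵖ ⥤ AddCommGrpCat.{w}) ℤ) {V V' : C} (f : V' ⟶ V) :
    QMap A f ↔ ∀ n, Function.Bijective (rr (A.homology n) f) := by
  have h1 : ∀ n, QuasiIsoAt (evR A f) n ↔ Function.Bijective (rr (A.homology n) f) := by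
    intro n
    rw [quasiIsoAt_iff_isIso_homologyMap]
    have h2 : (A.homology n).map f.op = (hI A V n).inv ≫ HomologicalComplex.homologyMap (evR A f) n ≫ (hI A V' n).hom := by
      rw [hI_nat, Iso.inv_hom_id_assoc]
    have h3 : HomologicalComplex.homologyMap (evR A f) n = (hI A V n).hom ≫ (A.homology n).map f.op ≫ (hI A V' n).inv := by
      rw [← Category.assoc, ← hI_nat, Category.assoc, Iso.hom_inv_id, Category.comp_id]
    have h4 : IsIso ((A.homology n).map f.op) ↔ Function.Bijective (rr (A.homology n) f) :=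
      ConcreteCategory.isIso_iff_bijective _
    rw [← h4]
    constructor
    · intro h
      rw [h2]
      infer_instance
    · intro h
      rw [h3]
      infer_instance
  constructor
  · intro h n
    exact (h1 n).1 (h.quasiIsoAt n)
  · intro h
    exact ⟨fun n => (h1 n).2 (h n)⟩

/-- Passage to the limit. -/
theorem qMap_of_coL {A : CochainComplex (Cᵒᵖ ⥤ AddCommGrpCat.{w}) ℤ} (hA : CoL A c) {T : C} (g : ∀ i, E.obj i ⟶ T)
    (hg' : ∀ {i j : I} (f : i ⟶ j), E.map f ≫ g j = g i) (g' : c.pt ⟶ T) (hg : ∀ i, pj c i ≫ g i = g') [Nonempty I]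
    (hq : ∀ i, QMap A (g i)) : QMap A g' := by
  rw [qMap_iff]
  intro n
  constructor
  · rw [injective_iff_map_eq_zero]
    intro x hx
    obtain ⟨i⟩ := ‹Nonempty I›
    have h1 : rr (A.homology n) (pj c i) (rr (A.homology n) (g i) x) = 0 := by rw [rr_rr, hg, hx]
    obtain ⟨k, f, hf⟩ := (hA n).2 i _ h1
    rw [rr_rr, hg'] at hf
    exact ((injective_iff_map_eq_zero _).1 ((qMap_iff A _).1 (hq k) n).1) _ hf
  · intro ξ
    obtain ⟨j, η, hη⟩ := (hA n).1 ξ
    obtain ⟨x, rfl⟩ := ((qMap_iff A _).1 (hq j) n).2 η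
    exact ⟨x, by rw [← hη, rr_rr, hg]⟩

end hom

section rs

variable {C : Type u} [Category.{v} C] {D : Type u''} [Category.{v''} D] {I : Type u'} [Category.{v'} I]

/-- Homology of a restriction. -/
noncomputable def rsH (σ : D ⥤ C) (A : CochainComplex (C ⥤ AddCommGrpCat.{w}) ℤ) (i : ℤ) :
    (rs σ A).homology i ≅ σ ⋙ A.homology i :=
  (A.sc i).mapHomologyIso ((Functor.whiskeringLeft _ _ AddCommGrpCat.{w}).obj σ)

lemma hom_inv_apply {P Q : Cᵒᵖ ⥤ AddCommGrpCat.{w}} (e : P ≅ Q) (V : Cᵒᵖ) (x : P.obj V) :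
    e.inv.app V (e.hom.app V x) = x := congr($(e.hom_inv_id_app V) x)

lemma Sur.of_iso {E : I ⥤ C} {c : Cone E} {P Q : Cᵒᵖ ⥤ AddCommGrpCat.{w}} (e : P ≅ Q) (h : Sur Q c) : Sur P c := by
  intro ξ
  obtain ⟨j, η, hη⟩ := h (e.hom.app (op c.pt) ξ)
  refine ⟨j, e.inv.app (op (E.obj j)) η, ?_⟩
  rw [← nat_apply, hη]
  exact hom_inv_apply e _ _

lemma Inj.of_iso {E : I ⥤ C} {c : Cone E} {P Q : Cᵒᵖ ⥤ AddCommGrpCat.{w}} (e : P ≅ Q) (h : Inj Q c) : Inj P c := by
  intro j η hη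
  obtain ⟨k, f, hf⟩ := h j (e.hom.app (op (E.obj j)) η) (by rw [← nat_apply, hη, map_zero])
  refine ⟨k, f, ?_⟩
  rw [← nat_apply] at hf
  have h1 := congrArg (e.inv.app (op (E.obj k))) hf
  rw [map_zero, hom_inv_apply] at h1
  exact h1

theorem CoL.rs {E : I ⥤ D} {c : Cone E} (F : D ⥤ C) {A : CochainComplex (Cᵒᵖ ⥤ AddCommGrpCat.{w}) ℤ}
    (h : CoL A (F.mapCone c)) : CoL (rs F.op A) c := fun n =>
  ⟨Sur.of_iso (rsH F.op A n) (h n).1, Inj.of_iso (rsH F.op A n) (h n).2⟩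

end rs

section psh

open Groth.Agent.Etrest Groth.Agent.Etrest.BigEtSite K343.Basic K343.Res
open Groth.Agent.Etcore.HpullCalc Groth.Agent.Etcore.EtInst Groth.Agent.Etcore.LimDeg0
open K855.NatCmp K855.HomCmp K152.Fib
open scoped Groth.Agent.Etcore.EtInst

attribute [local instance] isGrothendieckAbelian_AbK

variable {K : GrothendieckTopology Scheme.{u}} {Y : Scheme.{u}} [Good K] [ContK K Y] {F : EtCoh.Ab Y}
  (J : InjectiveResolution ((aPullK K Y).obj F))
  (hv : ∀ (V : Over Y) (q : ℕ), 0 < q → IsZero (((uResK K V.hom).rightDerived q).obj ((aPullK K Y).obj F)))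
  {I : Type u} [SmallCategory I] [IsCofiltered I] (D : I ⥤ Over Y)
  (hD : ∀ {i j : I} (f : i ⟶ j), IsAffineHom (D.map f).left) (hD₁ : ∀ i, CompactSpace (D.obj i).left)
  (hD₂ : ∀ i, QuasiSeparatedSpace (D.obj i).left)
  (c : Cone D) (hc : IsLimit c)

include hv hD hD₁ hD₂ hc in
theorem coL_psh : CoL (psh J) c := by
  intro n
  constructor
  · intro ξ
    obtain ⟨j, η, hη⟩ := K855.LimCx.hsurj J hv D hD hD₁ hD₂ c hc n ((hI (psh J) c.pt n).inv ξ)
    refine ⟨j, (hI (psh J) (D.obj j) n).hom η, ?_⟩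
    have h1 := congr($(hI_nat (psh J) (pj c j) n) η)
    refine Eq.trans h1.symm ?_
    change (hI (psh J) c.pt n).hom (HomologicalComplex.homologyMap (evM (psh J) (c.π.app j)) n η) = ξ
    rw [hη]
    exact congr($((hI (psh J) c.pt n).inv_hom_id) ξ)
  · intro j η hη
    have h1 := congr($(hI_nat (psh J) (pj c j) n) ((hI (psh J) (D.obj j) n).inv η))
    have h2 : (hI (psh J) (D.obj j) n).hom ((hI (psh J) (D.obj j) n).inv η) = η :=
      congr($((hI (psh J) (D.obj j) n).inv_hom_id) η)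
    have h3 : (hI (psh J) c.pt n).hom (HomologicalComplex.homologyMap (evM (psh J) (c.π.app j)) n
        ((hI (psh J) (D.obj j) n).inv η)) = 0 := by
      refine Eq.trans h1 (Eq.trans ?_ hη)
      exact congrArg _ h2
    have h4 : HomologicalComplex.homologyMap (evM (psh J) (c.π.app j)) n ((hI (psh J) (D.obj j) n).inv η) = 0 := by
      have h5 := congrArg (hI (psh J) c.pt n).inv h3
      rw [map_zero] at h5
      exact Eq.trans (congr($((hI (psh J) c.pt n).hom_inv_id) _)).symm h5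
    obtain ⟨k, f, hf⟩ := K855.LimCx.hinj J hv D hD hD₁ hD₂ c hc j n _ h4
    refine ⟨k, f, ?_⟩
    have h6 := congr($(hI_nat (psh J) (D.map f) n) ((hI (psh J) (D.obj j) n).inv η))
    have h7 : (hI (psh J) (D.obj k) n).hom (HomologicalComplex.homologyMap (evM (psh J) (D.map f)) n
        ((hI (psh J) (D.obj j) n).inv η)) = rr ((psh J).homology n) (D.map f) η := by
      refine Eq.trans h6 ?_
      exact congrArg _ h2
    rw [← h7, hf, map_zero]

lemma isPullback_E {C : Type u'} [Category.{v'} C] [HasPullbacks C] {Y₀ Y : C} (e : Y₀ ⟶ Y) {V V' : Over Y}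
    (f : V' ⟶ V) : IsPullback ((K152.Fib.E e).map f).left (pullback.fst V'.hom e) (pullback.fst V.hom e) f.left := by
  have h1 : IsPullback (pullback.snd V.hom e) (pullback.fst V.hom e) e V.hom := (IsPullback.of_hasPullback _ _).flip
  have h2 : IsPullback (pullback.snd V'.hom e) (pullback.fst V'.hom e) e V'.hom := (IsPullback.of_hasPullback _ _).flip
  have h3 : ((K152.Fib.E e).map f).left ≫ pullback.snd V.hom e = pullback.snd V'.hom e := by
    change ((Over.pullback e).map f).left ≫ _ = _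
    simp
  have h4 : ((K152.Fib.E e).map f).left ≫ pullback.fst V.hom e = pullback.fst V'.hom e ≫ f.left := by
    change ((Over.pullback e).map f).left ≫ _ = _
    simp
  refine IsPullback.of_right (h₁₂ := pullback.snd V.hom e) (h₂₂ := V.hom) (v₁₃ := e) ?_ h4 h1
  rw [h3, Over.w]
  exact h2

instance preserves_E' {C : Type u'} [Category.{v'} C] [HasPullbacks C] {Y₀ Y : C} (e : Y₀ ⟶ Y)
    (I : Type u'') [Category.{v''} I] [IsConnected I] : PreservesLimitsOfShape I (K152.Fib.E e) := by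
  have h1 : PreservesLimitsOfShape I (Over.map e ⋙ Over.forget Y) := by
    have : Over.map e ⋙ Over.forget Y = Over.forget Y₀ := rfl
    rw [this]
    infer_instance
  have h2 : PreservesLimitsOfShape I (Over.map e) :=
    preservesLimitsOfShape_of_reflects_of_preserves (Over.map e) (Over.forget Y)
  have : (Over.pullback e).IsRightAdjoint := (Over.mapPullbackAdj e).isRightAdjoint
  unfold K152.Fib.E
  infer_instance

variable {Y₀ : Scheme.{u}} (e : Y₀ ⟶ Y) [IsOpenImmersion e] [QuasiCompact e]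

omit [Good K] [QuasiCompact e] in
lemma shortExact_SK' : (SK e (psh J)).ShortExact :=
  shortExact_SK e J.cochainComplex (fun _ => inferInstance)

include hv hD hD₁ hD₂ hc in
theorem coL_KF : CoL (KF e (psh J)) c := by
  have hI : IsConnected I := IsCofiltered.isConnected I
  have h2 : CoL (psh J) c := coL_psh J hv D hD hD₁ hD₂ c hc
  have h3 : CoL (psh J) ((K152.Fib.E e).mapCone c) := by
    refine coL_psh J hv (D ⋙ K152.Fib.E e) (fun {i j} f => ?_) (fun i => ?_) (fun i => ?_) _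
      (isLimitOfPreserves (K152.Fib.E e) hc)
    · exact MorphismProperty.of_isPullback (P := @IsAffineHom) (isPullback_E e (D.map f)).flip (hD f)
    · have := hD₁ i
      exact QuasiCompact.compactSpace_of_compactSpace (pullback.fst (D.obj i).hom e)
    · have := hD₂ i
      exact quasiSeparatedSpace_of_quasiSeparated (pullback.fst (D.obj i).hom e)
  exact CoL.ses₁ (S := SK e (psh J)) (shortExact_SK' J e) h2 (CoL.rs (K152.Fib.E e) h3)

include hv hD hD₁ hD₂ hc in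
/-- **Passage to the limit** for the complex with supports. -/
theorem qMap_limit {T : Over Y} (g : ∀ i, D.obj i ⟶ T) (hg' : ∀ {i j : I} (f : i ⟶ j), D.map f ≫ g j = g i)
    (g' : c.pt ⟶ T) (hg : ∀ i, c.π.app i ≫ g i = g') (hq : ∀ i, QMap (KF e (psh J)) (g i)) :
    QMap (KF e (psh J)) g' := by
  have : Nonempty I := IsCofiltered.nonempty
  exact qMap_of_coL (coL_KF J hv D hD hD₁ hD₂ c hc e) g hg' g' hg hq

end psh

end K933.LimQ
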