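import Groth.Agent.EtDual.K933.SiteSmall
import Groth.Agent.FibDesc.K290.Hyp

/-!
# Comparison of two functorial complexes with descent

`nonempty_iso`: `C` a (large) category with pullbacks, `W` a class of morphisms stable under base change and
composition, `A`, `B` complexes of abelian presheaves on `C` in degrees `≥ 0`, satisfying Cech descent for the
morphisms of `W`; `α : H⁰ A ⟶ H⁰ B`; every object `T` has `f : X ⟶ T` in `W` such that `Hⁱ A(X) = Hⁱ B(X) = 0` for
`i > 0` and `α` is bijective at `X`. Then `Hⁱ A(T) ≅ Hⁱ B(T)` for all `T` and `i`.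
-/

set_option autoImplicit false
set_option backward.isDefEq.respectTransparency false
set_option backward.isDefEq.respectTransparency.types false

universe u v w

open CategoryTheory CategoryTheory.Limits Opposite ComplexShape ZeroObject

namespace K933.Site

open K781.Desc K781.FF K290.ElDesc K290.LocEx K290.LocCone K290.Small K290.Hyp Groth.Agent.CohtopB.LocTriv

section loc

variable {C : Type w} [SmallCategory C] {J : GrothendieckTopology C}

/-- A locally bijective morphism is an isomorphism after sheafification. -/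
lemma isIso_sheafify {P Q : Cᵒᵖ ⥤ AddCommGrpCat.{w}} (α : P ⟶ Q)
    (h1 : ∀ (T : C) (x : P.obj (op T)), α.app _ x = 0 → Loc J T (fun _ g => P.map g.op x = 0))
    (h2 : ∀ (T : C) (y : Q.obj (op T)), Loc J T (fun _ g => ∃ x, α.app _ x = Q.map g.op y)) :
    IsIso ((presheafToSheaf J AddCommGrpCat.{w}).map α) := by
  rw [← GrothendieckTopology.W_iff, GrothendieckTopology.W_iff_isLocallyBijective]
  refine ⟨⟨fun {T} x y hxy => ?_⟩, ⟨fun {T} y => ?_⟩⟩
  · obtain ⟨S, hS, h⟩ := h1 T.unop (x - y) (by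
      rw [map_sub, sub_eq_zero]
      exact hxy)
    refine J.superset_covering (fun V g hg => ?_) hS
    have h3 : P.map g.op (x - y) = 0 := h g hg
    rw [map_sub, sub_eq_zero] at h3
    exact h3
  · obtain ⟨S, hS, h⟩ := h2 T y
    exact J.superset_covering (fun V g hg => h g hg) hS

lemma isZero_sheafify {P : Cᵒᵖ ⥤ AddCommGrpCat.{w}}
    (h : ∀ (T : C) (x : P.obj (op T)), Loc J T (fun _ g => P.map g.op x = 0)) :
    IsZero ((presheafToSheaf J AddCommGrpCat.{w}).obj P) := by
  have h0 : IsZero (0 : Cᵒᵖ ⥤ AddCommGrpCat.{w}) := isZero_zero _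
  have h1 : IsIso ((presheafToSheaf J AddCommGrpCat.{w}).map (0 : P ⟶ 0)) := by
    apply isIso_sheafify
    · intro T x _
      exact h T x
    · intro T y
      have h2 : IsZero ((0 : Cᵒᵖ ⥤ AddCommGrpCat.{w}).obj (op T)) := h0.obj _
      exact ⟨⊤, J.top_mem _, fun V g _ => ⟨0, by
        have : Subsingleton ((0 : Cᵒᵖ ⥤ AddCommGrpCat.{w}).obj (op V)) :=
          AddCommGrpCat.subsingleton_of_isZero (h0.obj _)
        exact Subsingleton.elim _ _⟩⟩
  exact ((presheafToSheaf J AddCommGrpCat.{w}).map_isZero h0).of_iso (asIso ((presheafToSheaf J _).map (0 : P ⟶ 0)))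

end loc

section big

variable {C : Type (u + 1)} [Category.{u} C]

/-- The complex of values at `T`. -/
noncomputable abbrev evC (T : C) (A : CochainComplex (Cᵒᵖ ⥤ AddCommGrpCat.{w}) ℤ) :
    CochainComplex AddCommGrpCat.{w} ℤ :=
  (((evaluation Cᵒᵖ AddCommGrpCat.{w}).obj (op T)).mapHomologicalComplex (up ℤ)).obj A

/-- Homology of the values. -/
noncomputable def evHomologyIso (T : C) (A : CochainComplex (Cᵒᵖ ⥤ AddCommGrpCat.{w}) ℤ) (i : ℤ) :
    (evC T A).homology i ≅ (A.homology i).obj (op T) :=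
  (A.sc i).mapHomologyIso ((evaluation Cᵒᵖ AddCommGrpCat.{w}).obj (op T))

/-- The complex on the universe lift. -/
noncomputable abbrev upA (A : CochainComplex (Cᵒᵖ ⥤ AddCommGrpCat.{u + 1}) ℤ) :
    CochainComplex ((ULiftHom.{u + 1} C)ᵒᵖ ⥤ AddCommGrpCat.{u + 1}) ℤ :=
  K781.Desc.rs (dnF C).op A

/-- Homology of the complex on the universe lift. -/
noncomputable def upHomologyIso (A : CochainComplex (Cᵒᵖ ⥤ AddCommGrpCat.{u + 1}) ℤ) (i : ℤ) :
    (upA A).homology i ≅ (dnF C).op ⋙ A.homology i :=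
  (A.sc i).mapHomologyIso ((Functor.whiskeringLeft _ _ AddCommGrpCat.{u + 1}).obj (dnF C).op)

variable [HasPullbacks C] (W : MorphismProperty C) [W.IsStableUnderBaseChange] [W.IsMultiplicative]

lemma loc_of_exists (T : ULiftHom.{u + 1} C) {P : ∀ ⦃V' : ULiftHom.{u + 1} C⦄, (V' ⟶ T) → Prop}
    (hP : ∀ (V' V'' : ULiftHom.{u + 1} C) (g : V' ⟶ T) (h : V'' ⟶ V'), P g → P (h ≫ g))
    (h : ∃ (X : C) (f : X ⟶ T.objDown), W f ∧ P (⟨f⟩ : ULiftHom.objUp X ⟶ T)) : Loc (topW W) T P := by
  obtain ⟨X, f, hf, h⟩ := h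
  exact loc_of hP f hf h

/-- A cover with descent. -/
structure Cov (A : CochainComplex (Cᵒᵖ ⥤ AddCommGrpCat.{u + 1}) ℤ) {X T : C} (f : X ⟶ T) (σ : Dp ⥤ Cᵒᵖ) : Prop where
  lhw : LHW W σ
  desc : IsDesc (K781.Desc.rs σ A)
  fac : ∃ (e : op T ≅ σ.obj WithInitial.star) (g : pt σ (ob 0) ⟶ X), g ≫ f = (e.hom ≫ σ.map (init (ob 0))).unop

variable {W}

/-- **Comparison theorem.** -/
theorem nonempty_iso' {A B : CochainComplex (Cᵒᵖ ⥤ AddCommGrpCat.{u + 1}) ℤ}
    (hA0 : ∀ i < 0, IsZero (A.X i)) (hB0 : ∀ i < 0, IsZero (B.X i))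
    (hcov : ∀ ⦃X T : C⦄ (f : X ⟶ T), W f → ∃ σ : Dp ⥤ Cᵒᵖ, Cov W A f σ ∧ IsDesc (K781.Desc.rs σ B))
    (α : A.homology 0 ⟶ B.homology 0)
    (hgood : ∀ T : C, ∃ (X : C) (f : X ⟶ T), W f ∧ (∀ i > 0, IsZero ((evC X A).homology i)) ∧
      (∀ i > 0, IsZero ((evC X B).homology i)) ∧ IsIso (α.app (op X))) (T : C) (i : ℤ) :
    Nonempty ((evC T A).homology i ≅ (evC T B).homology i) := by
  have hz : ∀ (D : CochainComplex (Cᵒᵖ ⥤ AddCommGrpCat.{u + 1}) ℤ) (_ : ∀ T : C, ∃ (X : C) (f : X ⟶ T), W f ∧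
      ∀ i > 0, IsZero ((evC X D).homology i)) (i : ℤ) (_ : i > 0),
      IsZero ((presheafToSheaf (topW W) AddCommGrpCat.{u + 1}).obj ((upA D).homology i)) := by
    intro D hD i hi
    refine IsZero.of_iso (isZero_sheafify (P := (dnF C).op ⋙ D.homology i) fun T x => ?_)
      ((presheafToSheaf (topW W) AddCommGrpCat.{u + 1}).mapIso (upHomologyIso D i))
    obtain ⟨X, f, hf, h⟩ := hD T.objDown
    refine loc_of_exists W T ?_ ⟨X, f, hf, ?_⟩
    · intro V' V'' g k hg
      have h1 := congr($(((dnF C).op ⋙ D.homology i).map_comp g.op k.op) x)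
      refine Eq.trans h1 ?_
      change ((dnF C).op ⋙ D.homology i).map k.op (((dnF C).op ⋙ D.homology i).map g.op x) = 0
      rw [hg, map_zero]
    · have h1 : IsZero ((D.homology i).obj (op X)) := (h i hi).of_iso (evHomologyIso X D i).symm
      have : Subsingleton ((D.homology i).obj (op X)) := AddCommGrpCat.subsingleton_of_isZero h1
      exact Subsingleton.elim (α := (D.homology i).obj (op X)) _ _
  have hbU : ∀ (D : CochainComplex (Cᵒᵖ ⥤ AddCommGrpCat.{u + 1}) ℤ) (_ : ∀ i < 0, IsZero (D.X i)) (i : ℤ),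
      i < 0 → IsZero ((upA D).X i) := fun D hD i hi =>
    ((Functor.whiskeringLeft _ _ _).obj (dnF C).op).map_isZero (hD i hi)
  let β : (upA A).homology 0 ⟶ (upA B).homology 0 :=
    (upHomologyIso A 0).hom ≫ Functor.whiskerLeft (dnF C).op α ≫ (upHomologyIso B 0).inv
  have hβ : IsIso ((presheafToSheaf (topW W) AddCommGrpCat.{u + 1}).map β) := by
    have h1 : IsIso ((presheafToSheaf (topW W) AddCommGrpCat.{u + 1}).map
        (Functor.whiskerLeft (dnF C).op α)) := by
      apply isIso_sheafify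
      · intro T x hx
        obtain ⟨X, f, hf, -, -, h⟩ := hgood T.objDown
        refine loc_of_exists W T ?_ ⟨X, f, hf, ?_⟩
        · intro V' V'' g k hg
          have h1 := congr($(((dnF C).op ⋙ A.homology 0).map_comp g.op k.op) x)
          refine Eq.trans h1 ?_
          change ((dnF C).op ⋙ A.homology 0).map k.op (((dnF C).op ⋙ A.homology 0).map g.op x) = 0
          rw [hg, map_zero]
        · have h2 : Function.Injective (α.app (op X)) :=
            ((ConcreteCategory.isIso_iff_bijective (α.app (op X))).1 h).1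
          apply h2
          have h3 := congr($(α.naturality f.op) x)
          refine Eq.trans h3 ?_
          change (B.homology 0).map f.op (α.app (op T.objDown) x) = α.app (op X) 0
          rw [show α.app (op T.objDown) x = 0 from hx, map_zero, map_zero]
      · intro T y
        obtain ⟨X, f, hf, -, -, h⟩ := hgood T.objDown
        refine loc_of_exists W T ?_ ⟨X, f, hf, ?_⟩
        · rintro V' V'' g k ⟨x, hx⟩
          refine ⟨((dnF C).op ⋙ A.homology 0).map k.op x, ?_⟩
          have h1 := congr($(((dnF C).op ⋙ B.homology 0).map_comp g.op k.op) y)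
          refine Eq.trans ?_ h1.symm
          have h2 := congr($((Functor.whiskerLeft (dnF C).op α).naturality k.op) x)
          refine Eq.trans h2 ?_
          change ((dnF C).op ⋙ B.homology 0).map k.op ((Functor.whiskerLeft (dnF C).op α).app (op V') x) = _
          rw [hx]
          rfl
        · exact ((ConcreteCategory.isIso_iff_bijective (α.app (op X))).1 h).2 _
    have h2 : (presheafToSheaf (topW W) AddCommGrpCat.{u + 1}).map β =
        (presheafToSheaf (topW W) AddCommGrpCat.{u + 1}).map (upHomologyIso A 0).hom ≫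
          (presheafToSheaf (topW W) AddCommGrpCat.{u + 1}).map (Functor.whiskerLeft (dnF C).op α) ≫
            (presheafToSheaf (topW W) AddCommGrpCat.{u + 1}).map (upHomologyIso B 0).inv := by
      rw [← Functor.map_comp, ← Functor.map_comp]
    rw [h2]
    infer_instance
  obtain ⟨I, φ, ψ, hφ, hψ⟩ := exists_roof (J := topW W) (A := upA A) (B := upA B) (hbU A hA0) (hbU B hB0)
    (hz A (fun T => by
      obtain ⟨X, f, hf, h, -, -⟩ := hgood T
      exact ⟨X, f, hf, h⟩))
    (hz B (fun T => by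
      obtain ⟨X, f, hf, -, h, -⟩ := hgood T
      exact ⟨X, f, hf, h⟩)) β hβ (by
      rintro T R ⟨X, f, hf, hR⟩
      obtain ⟨σ, ⟨h1, h2, e, g, he⟩, h3⟩ := hcov f hf
      have hbA : BB (K781.Desc.rs σ A) :=
        ⟨0, fun i hi => ((Functor.whiskeringLeft _ _ _).obj σ).map_isZero (hA0 i hi)⟩
      have hbB : BB (K781.Desc.rs σ B) :=
        ⟨0, fun i hi => ((Functor.whiskeringLeft _ _ _).obj σ).map_isZero (hB0 i hi)⟩
      refine ⟨σ ⋙ (upF C).op, ⟨h1.lh, elDesc_of_isDesc hbA h2, elDesc_of_isDesc hbB h3⟩,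
        (upF C).op.mapIso e, ?_⟩
      have h4 : (((upF C).op.mapIso e).hom ≫ (σ ⋙ (upF C).op).map (init (ob 0))).unop =
          (⟨g⟩ : ULiftHom.objUp (pt σ (ob 0)) ⟶ ULiftHom.objUp X) ≫ (⟨f⟩ : ULiftHom.objUp X ⟶ T) :=
        ULift.ext _ _ he.symm
      rw [h4]
      exact R.downward_closed hR _)
  have h1 := hφ (op (ULiftHom.objUp T))
  have h2 := hψ (op (ULiftHom.objUp T))
  let φ' := (((evaluation _ AddCommGrpCat.{u + 1}).obj (op (ULiftHom.objUp T))).mapHomologicalComplex (up ℤ)).map φ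
  let ψ' := (((evaluation _ AddCommGrpCat.{u + 1}).obj (op (ULiftHom.objUp T))).mapHomologicalComplex (up ℤ)).map ψ
  have h1' : QuasiIso φ' := h1
  have h2' : QuasiIso ψ' := h2
  exact ⟨(isoOfQuasiIsoAt φ' i) ≪≫ (isoOfQuasiIsoAt ψ' i).symm⟩

variable [∀ (n : ℕ) (f : Arrow C), HasWidePullback f.right (fun _ : Fin (n + 1) => f.left) fun _ => f.hom]

/-- **Comparison theorem**, descent along Cech nerves. -/
theorem nonempty_iso {A B : CochainComplex (Cᵒᵖ ⥤ AddCommGrpCat.{u + 1}) ℤ}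
    (hA0 : ∀ i < 0, IsZero (A.X i)) (hB0 : ∀ i < 0, IsZero (B.X i))
    (hA : ∀ ⦃X T : C⦄ (f : X ⟶ T), W f → IsDesc (K781.Desc.rs (cech f) A))
    (hB : ∀ ⦃X T : C⦄ (f : X ⟶ T), W f → IsDesc (K781.Desc.rs (cech f) B))
    (α : A.homology 0 ⟶ B.homology 0)
    (hgood : ∀ T : C, ∃ (X : C) (f : X ⟶ T), W f ∧ (∀ i > 0, IsZero ((evC X A).homology i)) ∧
      (∀ i > 0, IsZero ((evC X B).homology i)) ∧ IsIso (α.app (op X))) (T : C) (i : ℤ) :
    Nonempty ((evC T A).homology i ≅ (evC T B).homology i) := by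
  refine nonempty_iso' (W := W) hA0 hB0 (fun X T f hf => ?_) α hgood T i
  have hw : HasWidePullback T (fun _ : Fin 1 => X) (fun _ => f) := hwp f 0
  refine ⟨cech f, ⟨lhw_cech W hf, hA f hf, Iso.refl _, WidePullback.π (fun _ : Fin 1 => f) 0, ?_⟩, hB f hf⟩
  rw [Iso.refl_hom, Category.id_comp]
  exact WidePullback.π_arrow (fun _ : Fin 1 => f) 0

end big

end K933.Site
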