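import Groth.Agent.FibDesc.K290.Small
import Groth.Agent.FibDesc.K781.Abs

/-!
# Comparison of two complexes of presheaves with descent, small site

`exists_roof`: `A`, `B` complexes of abelian presheaves in degrees `≥ 0` on a small site, satisfying descent along
enough coverings, whose homology presheaves in degrees `> 0` are locally zero, and `α : H⁰ A ⟶ H⁰ B` an isomorphism
after sheafification. Then `A` and `B` are connected by objectwise quasi-isomorphisms.
-/

set_option autoImplicit false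
set_option backward.isDefEq.respectTransparency false
set_option backward.isDefEq.respectTransparency.types false

universe u v w

open CategoryTheory CategoryTheory.Limits Opposite ComplexShape

namespace K933.Site

open K781.Desc K781.FF K290.ElDesc K290.LocEx K290.LocCone K290.Small Groth.Agent.CohtopB.LocTriv
  Groth.Agent.Htor.H253.AbQuasi

section single

variable {S : Type u} [Category.{v} S] [Abelian S]

/-- The inclusion of the cycles of degree zero. -/
noncomputable def cyc0 (K : CochainComplex S ℤ) :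
    (HomologicalComplex.single S (up ℤ) 0).obj (K.cycles 0) ⟶ K :=
  HomologicalComplex.mkHomFromSingle (K.iCycles 0) (fun k _ => K.iCycles_d 0 k)

lemma isIso_homologyπ_of_isZero (K : CochainComplex S ℤ) (hK : IsZero (K.X (-1))) : IsIso (K.homologyπ 0) :=
  K.isIso_homologyπ (i := -1) 0 (by simp) (hK.eq_of_src _ _)

lemma quasiIsoAt_cyc0 (K : CochainComplex S ℤ) (hK : IsZero (K.X (-1))) : QuasiIsoAt (cyc0 K) 0 := by
  rw [quasiIsoAt_iff_isIso_homologyMap]
  let s := (HomologicalComplex.single S (up ℤ) 0).obj (K.cycles 0)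
  have h1 : IsIso (K.homologyπ 0) := isIso_homologyπ_of_isZero K hK
  have h2 : IsIso (s.homologyπ 0) := by
    refine s.isIso_homologyπ (i := -1) 0 (by simp) ?_
    exact (HomologicalComplex.isZero_single_obj_X (up ℤ) 0 _ (-1) (by simp)).eq_of_src _ _
  have h3 : IsIso (s.iCycles 0) := by
    refine s.isIso_iCycles (j := 1) 0 (by simp) ?_
    exact (HomologicalComplex.isZero_single_obj_X (up ℤ) 0 _ 1 (by simp)).eq_of_tgt _ _
  have h4 : HomologicalComplex.cyclesMap (cyc0 K) 0 = s.iCycles 0 ≫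
      (HomologicalComplex.singleObjXSelf (up ℤ) 0 (K.cycles 0)).hom := by
    rw [← cancel_mono (K.iCycles 0), HomologicalComplex.cyclesMap_i, Category.assoc]
    congr 1
    exact HomologicalComplex.mkHomFromSingle_f _ _
  have h5 : IsIso (HomologicalComplex.cyclesMap (cyc0 K) 0) := by
    rw [h4]
    infer_instance
  have h6 := HomologicalComplex.homologyπ_naturality (cyc0 K) 0
  have h7 : IsIso (s.homologyπ 0 ≫ HomologicalComplex.homologyMap (cyc0 K) 0) := by
    rw [h6]
    infer_instance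
  exact IsIso.of_isIso_comp_left (s.homologyπ 0) _

lemma quasiIso_cyc0 (K : CochainComplex S ℤ) (hK : ∀ i < 0, IsZero (K.X i))
    (hK' : ∀ i > 0, IsZero (K.homology i)) : QuasiIso (cyc0 K) := by
  refine ⟨fun i => ?_⟩
  by_cases hi : i = 0
  · subst hi
    exact quasiIsoAt_cyc0 K (hK _ (by simp))
  · rw [quasiIsoAt_iff_isIso_homologyMap]
    have h1 : IsZero (((HomologicalComplex.single S (up ℤ) 0).obj (K.cycles 0)).homology i) :=
      HomologicalComplex.isZero_single_obj_homology (up ℤ) 0 _ i hi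
    have h2 : IsZero (K.homology i) := by
      rcases lt_or_gt_of_ne hi with h | h
      · exact ShortComplex.isZero_homology_of_isZero_X₂ _ (hK i h)
      · exact hK' i h
    exact ⟨0, h1.eq_of_src _ _, h2.eq_of_src _ _⟩

/-- Two complexes in degrees `≥ 0` with the same cohomology, concentrated in degree `0`: a quasi-isomorphism from
`B` to a bounded below complex of injectives gives one from `A`. -/
theorem exists_quasi_of_homology {A B L : CochainComplex S ℤ} (hA : ∀ i < 0, IsZero (A.X i))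
    (hA' : ∀ i > 0, IsZero (A.homology i)) (hB : ∀ i < 0, IsZero (B.X i)) (hB' : ∀ i > 0, IsZero (B.homology i))
    (hL : ∀ i, Injective (L.X i)) (hL' : ∀ i < 0, IsZero (L.X i)) (ψ : B ⟶ L) [QuasiIso ψ]
    (α : A.homology 0 ≅ B.homology 0) : ∃ g : A ⟶ L, QuasiIso g := by
  have h1 : IsIso (A.homologyπ 0) := isIso_homologyπ_of_isZero A (hA _ (by simp))
  have h2 : IsIso (B.homologyπ 0) := isIso_homologyπ_of_isZero B (hB _ (by simp))
  have h3 := quasiIso_cyc0 A hA hA'
  have h4 := quasiIso_cyc0 B hB hB'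
  let e : A.cycles 0 ≅ B.cycles 0 := asIso (A.homologyπ 0) ≪≫ α ≪≫ (asIso (B.homologyπ 0)).symm
  obtain ⟨g, hg⟩ := exists_lift_single (X := A.cycles 0) (K := A) (I := L) hL hL' (cyc0 A)
    ((HomologicalComplex.single S (up ℤ) 0).map e.hom ≫ cyc0 B ≫ ψ)
  refine ⟨g, ?_⟩
  have h5 : QuasiIso (cyc0 A ≫ g) := by
    rw [hg]
    infer_instance
  exact (quasiIso_iff_comp_left (cyc0 A) g).1 h5

end single

section small

variable {C : Type w} [SmallCategory C] {J : GrothendieckTopology C}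

/-- The complex of values at `T`. -/
noncomputable abbrev ev (T : C) (A : CochainComplex (Cᵒᵖ ⥤ AddCommGrpCat.{w}) ℤ) :
    CochainComplex AddCommGrpCat.{w} ℤ :=
  (((evaluation Cᵒᵖ AddCommGrpCat.{w}).obj (op T)).mapHomologicalComplex (up ℤ)).obj A

/-- The homology of the sheafification. -/
noncomputable def shHomologyIso (J : GrothendieckTopology C) (A : CochainComplex (Cᵒᵖ ⥤ AddCommGrpCat.{w}) ℤ) (i : ℤ) :
    (((presheafToSheaf J AddCommGrpCat.{w}).mapHomologicalComplex (up ℤ)).obj A).homology i ≅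
      (presheafToSheaf J AddCommGrpCat.{w}).obj (A.homology i) :=
  (A.sc i).mapHomologyIso (presheafToSheaf J AddCommGrpCat.{w})

theorem exists_roof {A B : CochainComplex (Cᵒᵖ ⥤ AddCommGrpCat.{w}) ℤ}
    (hA0 : ∀ i < 0, IsZero (A.X i)) (hB0 : ∀ i < 0, IsZero (B.X i))
    (hA : ∀ i > 0, IsZero ((presheafToSheaf J AddCommGrpCat.{w}).obj (A.homology i)))
    (hB : ∀ i > 0, IsZero ((presheafToSheaf J AddCommGrpCat.{w}).obj (B.homology i)))
    (α : A.homology 0 ⟶ B.homology 0) (hα : IsIso ((presheafToSheaf J AddCommGrpCat.{w}).map α))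
    (hcov : Enough J (fun σ => LH J σ ∧ ElDesc (K781.Desc.rs σ A) ∧ ElDesc (K781.Desc.rs σ B))) :
    ∃ (I : CochainComplex (Cᵒᵖ ⥤ AddCommGrpCat.{w}) ℤ) (φ : A ⟶ I) (ψ : B ⟶ I),
      (∀ T : Cᵒᵖ, QuasiIso ((((evaluation _ AddCommGrpCat.{w}).obj T).mapHomologicalComplex (up ℤ)).map φ)) ∧
      (∀ T : Cᵒᵖ, QuasiIso ((((evaluation _ AddCommGrpCat.{w}).obj T).mapHomologicalComplex (up ℤ)).map ψ)) := by
  let a' := presheafToSheaf J AddCommGrpCat.{w}
  let s' := sheafToPresheaf J AddCommGrpCat.{w}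
  let adj : a' ⊣ s' := sheafificationAdjunction J AddCommGrpCat.{w}
  let KA : CochainComplex (Sheaf J AddCommGrpCat.{w}) ℤ := (a'.mapHomologicalComplex (up ℤ)).obj A
  let KB : CochainComplex (Sheaf J AddCommGrpCat.{w}) ℤ := (a'.mapHomologicalComplex (up ℤ)).obj B
  have hKA : ∀ i < 0, IsZero (KA.X i) := fun i hi => a'.map_isZero (hA0 i hi)
  have hKB : ∀ i < 0, IsZero (KB.X i) := fun i hi => a'.map_isZero (hB0 i hi)
  have hKB' : KB.IsStrictlyGE 0 := by
    rw [CochainComplex.isStrictlyGE_iff]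
    exact hKB
  have := IsGrothendieckAbelian.enoughInjectives (C := Sheaf J AddCommGrpCat.{w})
  obtain ⟨L, i, hi, hL, hL'⟩ := CochainComplex.Plus.modelCategoryQuillen.exists_quasiIso_injective KB 0
  have hL0 : ∀ n < 0, IsZero (L.X n) := fun n hn => L.isZero_of_isStrictlyGE 0 n hn
  obtain ⟨g, hg⟩ := exists_quasi_of_homology (A := KA) (B := KB) (L := L) hKA
    (fun n hn => (hA n hn).of_iso (shHomologyIso J A n)) hKB (fun n hn => (hB n hn).of_iso (shHomologyIso J B n))
    hL hL0 i (shHomologyIso J A 0 ≪≫ (@asIso _ _ _ _ _ hα) ≪≫ (shHomologyIso J B 0).symm)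
  -- from a quasi-isomorphism after sheafification to an objectwise one
  have key : ∀ (X : CochainComplex (Cᵒᵖ ⥤ AddCommGrpCat.{w}) ℤ) (_ : ∀ i < 0, IsZero (X.X i))
      (j : (a'.mapHomologicalComplex (up ℤ)).obj X ⟶ L) (_ : QuasiIso j)
      (_ : Enough J (fun σ => LH J σ ∧ ElDesc (K781.Desc.rs σ X))),
      ∃ φ : X ⟶ (s'.mapHomologicalComplex (up ℤ)).obj L,
        ∀ T : Cᵒᵖ, QuasiIso ((((evaluation _ AddCommGrpCat.{w}).obj T).mapHomologicalComplex (up ℤ)).map φ) := by
    intro X hX j hj hcovX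
    obtain ⟨φ, ψ, hψ', h1⟩ := exists_adj adj X L j
    have hψ : IsIso ψ := by
      have : ∀ n, IsIso (ψ.f n) := fun n => by
        rw [hψ']
        exact inferInstanceAs (IsIso ((sheafificationAdjunction J _).counit.app (L.X n)))
      exact HomologicalComplex.Hom.isIso_of_components ψ
    have h2 : QuasiIso ((a'.mapHomologicalComplex (up ℤ)).map φ) := by
      have h3 : QuasiIso ((a'.mapHomologicalComplex (up ℤ)).map φ ≫ ψ) := h1 ▸ hj
      exact (quasiIso_iff_comp_right _ ψ).1 h3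
    have h4 : IsLocCone J φ := locCone φ h2
    have hI0 : ∀ n < 0, IsZero (((s'.mapHomologicalComplex (up ℤ)).obj L).X n) := fun n hn =>
      s'.map_isZero (hL0 n hn)
    have hbI : ∀ τ : Dp ⥤ Cᵒᵖ, BB (K781.Desc.rs τ ((s'.mapHomologicalComplex (up ℤ)).obj L)) := fun τ =>
      ⟨0, fun i hi => ((Functor.whiskeringLeft _ _ _).obj τ).map_isZero (hI0 i hi)⟩
    have hP := P_all 0 hX hI0 h4 (fun T R hR => by
      obtain ⟨τ, ⟨h1, h2⟩, h3⟩ := hcovX T R hR
      refine ⟨τ, ⟨h2, elDesc_of_isDesc (hbI τ) (isDesc_of_augExact (hbI τ) fun q => ?_)⟩, h3⟩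
      have := hL q
      have hq : Injective (((s'.mapHomologicalComplex (up ℤ)).obj L).X q) :=
        Injective.injective_of_adjoint adj (L.X q)
      exact augExact_of_ex (h1.ex _ (L.X q).property))
    refine ⟨φ, fun T => ?_⟩
    apply quasiIso_of_isConeElt
    intro p q r s hp hq hs u v hu huv
    exact hP r T p q s hp hq hs u v hu huv
  obtain ⟨φ, hφ⟩ := key A hA0 g hg (fun T R hR => by
    obtain ⟨τ, ⟨h1, h2, h2'⟩, h3⟩ := hcov T R hR
    exact ⟨τ, ⟨h1, h2⟩, h3⟩)
  obtain ⟨ψ, hψ⟩ := key B hB0 i hi (fun T R hR => by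
    obtain ⟨τ, ⟨h1, h2, h2'⟩, h3⟩ := hcov T R hR
    exact ⟨τ, ⟨h1, h2'⟩, h3⟩)
  exact ⟨_, φ, ψ, hφ, hψ⟩

end small

end K933.Site
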